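import Cfsg.Agent.Omega.NO3S.SN.Geo

/-!
# THEOREM SN, part (3): blocks

`Sit` : `Base` and `Blk`.  `blk ε X y p` : the block of `y` which contains `p`, for collinear `y`, `p`
(the conjugate of the block `X` of `z`, `z_1`).

* `Sit.blk_eq`, `Sit.conj_blk`, `Sit.blk_eq_blk` (one block of `y` contains `p`), `Sit.U_le_of` (`U_y` is generated by
  the blocks), `Sit.Q1'`, `Sit.K1'`, `Sit.K2'`;
* (3a) `Sit.three_a`; `MM y p = blk y p ⊔ blk p y`, `Sit.MM_eq` : it depends only on `blk y p`;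
* (C) `Sit.blk_ne` : `blk y p ≠ blk p y`, `Sit.not_mem`;
* (3c) `Sit.zeta_one`.
-/

set_option autoImplicit false
set_option linter.unusedSectionVars false

namespace Cfsg.Agent.Omega.NO3S.SN

open Subgroup Cfsg Cfsg.Agent.ZN
open Cfsg.Agent.Omega.S5.Def
open Cfsg.Agent.MinSimple.VModule
open Cfsg.Agent.MinSimple.CosetFam (o2_conj zc_conj centralizer_conj normalizer_conj)
open Cfsg.Agent.Omega.NoFF.Basic (conj_conj conj_self mem_conj conj_le_iff comm_symm comm_mono conj_le_centralizer)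
open scoped Pointwise

universe u

/-! ### Pairs -/

section pairs

variable {N : ℕ}

theorem sum_pr (a b : Fin N) : ∑ i, pr a b i = 0 := by
  simp only [pr, Pi.add_apply, Finset.sum_add_distrib, Finset.sum_pi_single', Finset.mem_univ, if_true]
  exact CharTwo.add_self_eq_zero _

theorem sum_add {x y : Fin N → ZMod 2} (hx : ∑ i, x i = 0) (hy : ∑ i, y i = 0) : ∑ i, (x + y) i = 0 := by
  simp only [Pi.add_apply, Finset.sum_add_distrib, hx, hy, add_zero]

theorem pr_comm (a b : Fin N) : pr a b = pr b a := add_comm _ _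

theorem pr_self (a : Fin N) : pr a a = 0 := add_self _

theorem pr_add (a b c : Fin N) : pr a b + pr b c = pr a c := by
  simp only [pr]
  rw [add_assoc, ← add_assoc (Pi.single b 1) (Pi.single b 1), add_self, zero_add]

theorem single_comp (σ : Equiv.Perm (Fin N)) (a : Fin N) :
    (Pi.single a 1 : Fin N → ZMod 2) ∘ σ.symm = Pi.single (σ a) 1 := by
  funext j
  by_cases hj : j = σ a
  · subst hj
    simp
  · have h1 : σ.symm j ≠ a := fun h0 => hj (by rw [← h0, Equiv.apply_symm_apply])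
    simp [Function.comp, hj, h1]

theorem pr_comp (σ : Equiv.Perm (Fin N)) (a b : Fin N) : pr a b ∘ σ.symm = pr (σ a) (σ b) := by
  simp only [pr]
  rw [← single_comp, ← single_comp]
  rfl

theorem pr_apply (a b j : Fin N) : pr a b j = (if j = a then 1 else 0) + (if j = b then 1 else 0) := by
  simp only [pr, Pi.add_apply, Pi.single_apply]

/-- An even permutation extending a partial one. -/
theorem exists_even {k : ℕ} (hk : k + 2 ≤ N) {f g : Fin k → Fin N} (hf : Function.Injective f)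
    (hg : Function.Injective g) : ∃ σ : Equiv.Perm (Fin N), Equiv.Perm.sign σ = 1 ∧ ∀ i, σ (f i) = g i := by
  obtain ⟨σ, hσ⟩ := Equiv.Perm.exists_extending_pair f g hf hg
  rcases Int.units_eq_one_or (Equiv.Perm.sign σ) with h | h
  · exact ⟨σ, h, hσ⟩
  · have hN : NeZero N := ⟨by omega⟩
    have hc : (Finset.univ.image f).card = k := by
      rw [Finset.card_image_of_injective _ hf, Finset.card_univ, Fintype.card_fin]
    obtain ⟨a, ha⟩ := exists_not_mem (Finset.univ.image f) (by omega)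
    obtain ⟨b, hb⟩ := exists_not_mem (insert a (Finset.univ.image f))
      (lt_of_le_of_lt (Finset.card_insert_le _ _) (by omega))
    simp only [Finset.mem_insert, Finset.mem_image, Finset.mem_univ, true_and, not_or, not_exists] at ha hb
    refine ⟨σ * Equiv.swap a b, ?_, fun i => ?_⟩
    · rw [Equiv.Perm.sign_mul, h, Equiv.Perm.sign_swap (Ne.symm hb.1)]
      rfl
    · rw [Equiv.Perm.mul_apply, Equiv.swap_apply_of_ne_of_ne (ha i) (hb.2 i), hσ]

/-- Four points. -/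
theorem exists_even_four (hN : 8 ≤ N) {a b c d a' b' c' d' : Fin N} (h1 : a ≠ b) (h2 : a ≠ c) (h3 : a ≠ d)
    (h4 : b ≠ c) (h5 : b ≠ d) (h6 : c ≠ d) (h1' : a' ≠ b') (h2' : a' ≠ c') (h3' : a' ≠ d')
    (h4' : b' ≠ c') (h5' : b' ≠ d') (h6' : c' ≠ d') : ∃ σ : Equiv.Perm (Fin N), Equiv.Perm.sign σ = 1 ∧
      σ a = a' ∧ σ b = b' ∧ σ c = c' ∧ σ d = d' := by
  have key : ∀ {a b c d : Fin N}, a ≠ b → a ≠ c → a ≠ d → b ≠ c → b ≠ d → c ≠ d →
      Function.Injective ![a, b, c, d] := by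
    intro a b c d h1 h2 h3 h4 h5 h6 i j hij
    fin_cases i <;> fin_cases j <;> first | rfl | (exfalso; simp_all)
  obtain ⟨σ, h, hσ⟩ := exists_even (by omega) (key h1 h2 h3 h4 h5 h6) (key h1' h2' h3' h4' h5' h6')
  exact ⟨σ, h, hσ 0, hσ 1, hσ 2, hσ 3⟩

theorem exists_out (hN : 8 ≤ N) (s : Finset (Fin N)) (h : s.card ≤ 7) : ∃ i, i ∉ s := by
  have : NeZero N := ⟨by omega⟩
  exact exists_not_mem s (by omega)

end pairs

/-! ### Blocks -/

/-- `Base` and `Blk`. -/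
structure Sit {G : Type u} [Group G] {n : ℕ} [NeZero n] (V P : Subgroup G)
    (ε : (Fin n → ZMod 2) → G) (N : ℕ) (X : Subgroup G)
    (e : (Fin N → ZMod 2) → G) (α β : Fin n → Fin N) (ζ : G) : Prop where
  B : Base V P ε
  K : Blk V ε N X e α β ζ

/-- The block of `y` which contains `p` (for collinear `y`, `p`). -/
def blk {G : Type u} [Group G] {n : ℕ} [NeZero n] (ε : (Fin n → ZMod 2) → G) (X : Subgroup G) (y p : G) :
    Subgroup G :=
  ⨆ g : {g : G // g * pt ε 0 * g⁻¹ = y ∧ g * pt ε 1 * g⁻¹ = p}, MulAut.conj (g : G) • X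

/-- `M(y, p)` -/
def MM {G : Type u} [Group G] {n : ℕ} [NeZero n] (ε : (Fin n → ZMod 2) → G) (X : Subgroup G) (y p : G) :
    Subgroup G := blk ε X y p ⊔ blk ε X p y

namespace Sit

variable {G : Type u} [Group G] {n : ℕ} [NeZero n] {V P : Subgroup G} {ε : (Fin n → ZMod 2) → G}
  {N : ℕ} {X : Subgroup G} {e : (Fin N → ZMod 2) → G} {α β : Fin n → Fin N} {ζ : G}

theorem conj_blk (y p g : G) :
    MulAut.conj g • blk ε X y p = blk ε X (g * y * g⁻¹) (g * p * g⁻¹) := by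
  have key : ∀ (g y p : G), MulAut.conj g • blk ε X y p ≤ blk ε X (g * y * g⁻¹) (g * p * g⁻¹) := by
    intro g y p
    rw [Subgroup.pointwise_smul_subset_iff]
    refine iSup_le ?_
    rintro ⟨k, rfl, rfl⟩
    rw [← Subgroup.pointwise_smul_subset_iff, conj_conj]
    exact le_iSup (fun l : {l : G // l * pt ε 0 * l⁻¹ = g * (k * pt ε 0 * k⁻¹) * g⁻¹ ∧
      l * pt ε 1 * l⁻¹ = g * (k * pt ε 1 * k⁻¹) * g⁻¹} =>
      MulAut.conj (l : G) • X) ⟨g * k, by group, by group⟩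
  refine le_antisymm (key g y p) ?_
  have h1 := conj_le_iff (g := g) |>.2 (key g⁻¹ (g * y * g⁻¹) (g * p * g⁻¹))
  rw [conj_conj, mul_inv_cancel, map_one, one_smul] at h1
  refine h1.trans (le_of_eq ?_)
  congr 2 <;> group

theorem conj_MM (y p g : G) : MulAut.conj g • MM ε X y p = MM ε X (g * y * g⁻¹) (g * p * g⁻¹) := by
  rw [MM, smul_sup, conj_blk, conj_blk, MM]

theorem MM_symm (y p : G) : MM ε X y p = MM ε X p y := sup_comm _ _

variable (D : Sit V P ε N X e α β ζ)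
include D

theorem pt_mem_X (i : Fin n) : pt ε i ∈ X := D.K.V_le (D.B.pt_mem i)

theorem adj0 {i : Fin n} (hi : i ≠ 0) : Adj ε (pt ε 0) (pt ε i) := D.B.adj_pt (Ne.symm hi)

theorem pt_notMem {i : Fin n} (hi : i ≠ 0) : pt ε i ∉ zpowers (pt ε 0) := D.B.adj_notMem (D.adj0 hi)

theorem conj_X_eq {c p : G} (hc : c ∈ Cn (pt ε 0)) (hp : p ∈ X) (hp' : p ∈ MulAut.conj c • X)
    (hpz : p ∉ zpowers (pt ε 0)) : MulAut.conj c • X = X := by
  by_contra hne
  exact hpz (D.K.inter c hc hne ⟨hp, hp'⟩)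

theorem conj_X_eq_conj {k g : G} (h0 : k * pt ε 0 * k⁻¹ = g * pt ε 0 * g⁻¹)
    (h1 : k * pt ε 1 * k⁻¹ = g * pt ε 1 * g⁻¹) : MulAut.conj k • X = MulAut.conj g • X := by
  have key : ∀ i, k * pt ε i * k⁻¹ = g * pt ε i * g⁻¹ → (g⁻¹ * k) * pt ε i * (g⁻¹ * k)⁻¹ = pt ε i := by
    intro i hi
    have h3 : (g⁻¹ * k) * pt ε i * (g⁻¹ * k)⁻¹ = g⁻¹ * (k * pt ε i * k⁻¹) * g := by group
    rw [h3, hi]
    group
  have h2 : MulAut.conj (g⁻¹ * k) • X = X := by
    refine D.conj_X_eq (mem_Cn'.2 (key 0 h0)) (D.pt_mem_X 1) ?_ (D.pt_notMem D.B.one_ne_zero)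
    have h3 := mem_conj_of (D.pt_mem_X 1) (g⁻¹ * k)
    rwa [key 1 h1] at h3
  have h3 : MulAut.conj k • X = MulAut.conj g • (MulAut.conj (g⁻¹ * k) • X) := by
    rw [conj_conj, mul_inv_cancel_left]
  rw [h3, h2]

theorem blk_eq (g : G) : blk ε X (g * pt ε 0 * g⁻¹) (g * pt ε 1 * g⁻¹) = MulAut.conj g • X := by
  apply le_antisymm
  · exact iSup_le fun k => (D.conj_X_eq_conj k.2.1 k.2.2).le
  · exact le_iSup (fun k : {k : G // k * pt ε 0 * k⁻¹ = g * pt ε 0 * g⁻¹ ∧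
      k * pt ε 1 * k⁻¹ = g * pt ε 1 * g⁻¹} => MulAut.conj (k : G) • X) ⟨g, rfl, rfl⟩

theorem blk_eq' {g y p : G} (h0 : g * pt ε 0 * g⁻¹ = y) (h1 : g * pt ε 1 * g⁻¹ = p) :
    blk ε X y p = MulAut.conj g • X := by
  rw [← h0, ← h1]
  exact D.blk_eq g

theorem blk_z : blk ε X (pt ε 0) (pt ε 1) = X := by
  have h := D.blk_eq' (g := 1) (y := pt ε 0) (p := pt ε 1) (by group) (by group)
  rwa [map_one, one_smul] at h

theorem left_mem {y p : G} (h : Adj ε y p) : y ∈ blk ε X y p := by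
  obtain ⟨g, h0, h1⟩ := h
  rw [D.blk_eq' h0 h1, ← h0]
  exact mem_conj_of (D.pt_mem_X 0) g

theorem right_mem {y p : G} (h : Adj ε y p) : p ∈ blk ε X y p := by
  obtain ⟨g, h0, h1⟩ := h
  rw [D.blk_eq' h0 h1, ← h1]
  exact mem_conj_of (D.pt_mem_X 1) g

theorem blk_le_U {y p : G} (h : Adj ε y p) : blk ε X y p ≤ U V (pt ε 0) y := by
  obtain ⟨g, h0, h1⟩ := h
  rw [D.blk_eq' h0 h1, ← h0, ← conj_U]
  exact conj_le_iff.2 D.K.le

/-- The block of `y` containing `p` is unique. -/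
theorem blk_eq_blk {y p q : G} (h : Adj ε y p) (h' : Adj ε y q) (hq : q ∈ blk ε X y p) :
    blk ε X y q = blk ε X y p := by
  obtain ⟨g, h0, h1⟩ := h
  obtain ⟨k, k0, k1⟩ := h'
  rw [D.blk_eq' h0 h1] at hq ⊢
  rw [D.blk_eq' k0 k1]
  have hc : (g⁻¹ * k) * pt ε 0 * (g⁻¹ * k)⁻¹ = pt ε 0 := by
    have h3 : (g⁻¹ * k) * pt ε 0 * (g⁻¹ * k)⁻¹ = g⁻¹ * (k * pt ε 0 * k⁻¹) * g := by group
    rw [h3, k0, ← h0]
    group
  have hq1 : (g⁻¹ * k) * pt ε 1 * (g⁻¹ * k)⁻¹ = g⁻¹ * q * g := by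
    rw [← k1]
    group
  have h2 : MulAut.conj (g⁻¹ * k) • X = X := by
    refine D.conj_X_eq (p := g⁻¹ * q * g) (mem_Cn'.2 hc) (mem_conj.1 hq) ?_ ?_
    · rw [← hq1]
      exact mem_conj_of (D.pt_mem_X 1) _
    · rw [← hq1]
      have h4 := D.pt_notMem D.B.one_ne_zero
      intro h5
      apply h4
      have h6 : zpowers (pt ε 0) = MulAut.conj (g⁻¹ * k) • zpowers (pt ε 0) := by
        rw [conj_zpowers, hc]
      rw [h6, mem_conj] at h5
      have h7 : (g⁻¹ * k)⁻¹ * ((g⁻¹ * k) * pt ε 1 * (g⁻¹ * k)⁻¹) * (g⁻¹ * k) = pt ε 1 := by group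
      rwa [h7] at h5
  have h3 : MulAut.conj k • X = MulAut.conj g • (MulAut.conj (g⁻¹ * k) • X) := by
    rw [conj_conj, mul_inv_cancel_left]
  rw [h3, h2]

/-- `U_y` is generated by its blocks. -/
theorem U_le_of {y : G} {A : Subgroup G} (h : ∀ p, Adj ε y p → blk ε X y p ≤ A) : U V (pt ε 0) y ≤ A := by
  refine U_le fun g hg => ?_
  have h1 : Adj ε y (g * pt ε 1 * g⁻¹) := ⟨g, hg, rfl⟩
  refine le_trans ?_ (h _ h1)
  rw [D.blk_eq' hg rfl]
  exact conj_le_iff.2 D.K.V_le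

/-- (2d) `Q_p` centralises the blocks of `y` not containing `p`. -/
theorem Q1' {y p q : G} (h : Adj ε y p) (h' : Adj ε y q) (hne : blk ε X y q ≠ blk ε X y p) :
    Qn p ≤ centralizer (blk ε X y q : Set G) := by
  obtain ⟨g, h0, h1⟩ := h
  obtain ⟨k, k0, k1⟩ := h'
  rw [D.blk_eq' h0 h1, D.blk_eq' k0 k1] at hne
  rw [D.blk_eq' k0 k1, ← h1, ← conj_Qn]
  have hc : g⁻¹ * k ∈ Cn (pt ε 0) := by
    rw [mem_Cn']
    have h3 : (g⁻¹ * k) * pt ε 0 * (g⁻¹ * k)⁻¹ = g⁻¹ * (k * pt ε 0 * k⁻¹) * g := by group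
    rw [h3, k0, ← h0]
    group
  have h3 : MulAut.conj k • X = MulAut.conj g • (MulAut.conj (g⁻¹ * k) • X) := by
    rw [conj_conj, mul_inv_cancel_left]
  rw [h3, centralizer_conj, conj_le_iff]
  intro x hx
  refine D.K.Q1 x hx _ hc fun h4 => hne ?_
  rw [h3, h4]

/-- (2d) `Q_p` on the block of `y` containing `p`. -/
theorem Q2' {g p x : G} (h1 : g * pt ε 1 * g⁻¹ = p) (hx : x ∈ Qn p) :
    x ∈ centralizer ((MulAut.conj g • X : Subgroup G) : Set G) ∨
      ∀ v : Fin N → ZMod 2, ∑ i, v i = 0 →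
        x * (g * e v * g⁻¹) * x⁻¹ = g * e (v ∘ Equiv.swap (α 1) (β 1)) * g⁻¹ := by
  rw [← h1, ← conj_Qn, mem_conj] at hx
  rcases D.K.Q2 _ hx with h2 | h2
  · left
    rw [centralizer_conj, mem_conj]
    exact h2
  · right
    intro v hv
    rw [← h2 v hv]
    group

theorem K1' {y p : G} (h : Adj ε y p) :
    U V (pt ε 0) y ⊓ centralizer (oddGen (centralizer (blk ε X y p : Set G)) : Set G) ≤ blk ε X y p := by
  obtain ⟨g, h0, h1⟩ := h
  rw [D.blk_eq' h0 h1, ← h0, ← conj_U, centralizer_conj, ← conj_oddGen, centralizer_conj, ← smul_inf,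
    conj_le_iff]
  exact D.K.K1

theorem K2' {y p q : G} (h : Adj ε y p) (h' : Adj ε y q) (hne : blk ε X y q ≠ blk ε X y p) :
    y ∈ ⁅U V (pt ε 0) y, oddGen (centralizer (blk ε X y p : Set G))⁆ := by
  obtain ⟨g, h0, h1⟩ := h
  obtain ⟨k, k0, k1⟩ := h'
  rw [D.blk_eq' h0 h1, D.blk_eq' k0 k1] at hne
  have hc : g⁻¹ * k ∈ Cn (pt ε 0) := by
    rw [mem_Cn']
    have h3 : (g⁻¹ * k) * pt ε 0 * (g⁻¹ * k)⁻¹ = g⁻¹ * (k * pt ε 0 * k⁻¹) * g := by group
    rw [h3, k0, ← h0]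
    group
  have h3 : MulAut.conj k • X = MulAut.conj g • (MulAut.conj (g⁻¹ * k) • X) := by
    rw [conj_conj, mul_inv_cancel_left]
  have h4 := D.K.K2 ⟨_, hc, fun h4 => hne (by rw [h3, h4])⟩
  rw [D.blk_eq' h0 h1, centralizer_conj, ← conj_oddGen, ← h0, ← conj_U, ← conj_commutator]
  exact mem_conj_of h4 g

/-! ### The letters of the line `V` -/

theorem V_le_blk {i j : Fin n} (hij : i ≠ j) : V ≤ blk ε X (pt ε i) (pt ε j) := by
  obtain ⟨w, -, hV, h0, h1⟩ := D.B.exists_two hij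
  rw [D.blk_eq' h0 h1]
  have h2 := conj_le_iff (g := w) |>.2 D.K.V_le
  rwa [hV] at h2

theorem blk_pt {i j k : Fin n} (hij : i ≠ j) (hik : i ≠ k) :
    blk ε X (pt ε i) (pt ε j) = blk ε X (pt ε i) (pt ε k) :=
  D.blk_eq_blk (D.B.adj_pt hik) (D.B.adj_pt hij) (D.V_le_blk hik (D.B.pt_mem j))

theorem blk_zero {j : Fin n} (hj : j ≠ 0) : blk ε X (pt ε 0) (pt ε j) = X := by
  rw [D.blk_pt hj.symm D.B.one_ne_zero.symm]
  exact D.blk_z

/-! ### The even subsets -/

theorem e_zero : e 0 = 1 := by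
  have h := D.K.add 0 0 (by simp) (by simp)
  rw [add_zero] at h
  exact left_eq_mul.1 h

theorem gen_le {A : Subgroup G} (h : ∀ c d, c ≠ d → e (pr c d) ∈ A) : X ≤ A := by
  intro g hg
  obtain ⟨x, hx, rfl⟩ := D.K.surj g hg
  have hN : 0 < N := lt_of_lt_of_le (by norm_num) D.K.N8
  let a : Fin N := ⟨0, hN⟩
  have h01 : ∀ t : ZMod 2, t = 0 ∨ t = 1 := by decide
  have key : ∀ s : Finset (Fin N), ∑ i, (∑ j ∈ s, x j • pr a j) i = 0 ∧ e (∑ j ∈ s, x j • pr a j) ∈ A := by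
    intro s
    induction s using Finset.induction_on with
    | empty =>
      rw [Finset.sum_empty, D.e_zero]
      exact ⟨by simp, one_mem _⟩
    | insert j s hj ih =>
      rw [Finset.sum_insert hj]
      have h1 : ∑ i, (x j • pr a j) i = 0 ∧ e (x j • pr a j) ∈ A := by
        rcases h01 (x j) with h2 | h2
        · rw [h2, zero_smul, D.e_zero]
          exact ⟨by simp, one_mem _⟩
        · rw [h2, one_smul]
          refine ⟨sum_pr a j, ?_⟩
          by_cases h3 : a = j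
          · rw [h3, pr_self, D.e_zero]
            exact one_mem _
          · exact h a j h3
      refine ⟨sum_add h1.1 ih.1, ?_⟩
      rw [D.K.add _ _ h1.1 ih.1]
      exact mul_mem h1.2 ih.2
  have h2 : ∑ j, x j • pr a j = x := by
    funext i
    rw [Finset.sum_apply]
    simp only [Pi.smul_apply, pr_apply, smul_eq_mul, mul_add, mul_ite, mul_one, mul_zero,
      Finset.sum_add_distrib]
    rw [Finset.sum_ite_eq, if_pos (Finset.mem_univ i)]
    by_cases h3 : i = a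
    · simp only [h3, if_true, hx, zero_add]
    · simp only [h3, if_false, Finset.sum_const_zero, zero_add]
  have h3 := (key Finset.univ).2
  rwa [h2] at h3

theorem zeta_mem : ζ ∈ zpowers (pt ε 0) := by
  rcases D.K.zeta with h | h
  · rw [h]
    exact one_mem _
  · rw [h]
    exact mem_zpowers _

theorem zeta_comm {c : G} (hc : c ∈ Cn (pt ε 0)) : c * ζ * c⁻¹ = ζ := by
  rcases D.K.zeta with h | h
  · rw [h, mul_one, mul_inv_cancel]
  · rw [h]
    exact mem_Cn'.1 hc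

/-- An element inducing a given even permutation. -/
theorem exists_alt {σ : Equiv.Perm (Fin N)} (hσ : Equiv.Perm.sign σ = 1) : ∃ c ∈ Cn (pt ε 0),
    (∀ a b, c * e (pr a b) * c⁻¹ = e (pr (σ a) (σ b))) ∧
      ∀ a b, c * (e (pr a b) * ζ) * c⁻¹ = e (pr (σ a) (σ b)) * ζ := by
  obtain ⟨c, hc, h1⟩ := D.K.alt σ hσ
  have h2 : ∀ a b, c * e (pr a b) * c⁻¹ = e (pr (σ a) (σ b)) := by
    intro a b
    rw [h1 _ (sum_pr a b), pr_comp]
  refine ⟨c, hc, h2, fun a b => ?_⟩
  have h3 := D.zeta_comm hc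
  have h4 : c * (e (pr a b) * ζ) * c⁻¹ = (c * e (pr a b) * c⁻¹) * (c * ζ * c⁻¹) := by group
  rw [h4, h2, h3]

theorem pt_eq {i : Fin n} (hi : i ≠ 0) : pt ε i = e (pr (α i) (β i)) * ζ := D.K.pt i hi

theorem two_ne : (2 : ℕ) < n := lt_of_lt_of_le (by norm_num) D.B.five

/-- Another letter. -/
theorem exists_letter (i : Fin n) : ∃ j : Fin n, j ≠ 0 ∧ j ≠ i := by
  obtain ⟨j, hj⟩ := exists_not_mem ({0, i} : Finset (Fin n))
    (lt_of_le_of_lt Finset.card_le_two D.two_ne)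
  simp only [Finset.mem_insert, Finset.mem_singleton, not_or] at hj
  exact ⟨j, hj⟩

theorem disj' {i j : Fin n} (hi : i ≠ 0) (hj : j ≠ 0) (hij : i ≠ j) :
    α i ≠ α j ∧ α i ≠ β j ∧ β i ≠ α j ∧ β i ≠ β j :=
  ⟨(D.K.disj i j hi hj hij).1, (D.K.disj i j hi hj hij).2.1,
    (D.K.disj j i hj hi hij.symm).2.1.symm, (D.K.disj i j hi hj hij).2.2⟩

/-- `e(pr c d)` is in the block of `z_i` if `{c, d}` and `{α i, β i}` are disjoint. -/
theorem perp {i : Fin n} (hi : i ≠ 0) {c d : Fin N} (hcd : c ≠ d) (h1 : c ≠ α i) (h2 : c ≠ β i)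
    (h3 : d ≠ α i) (h4 : d ≠ β i) : e (pr c d) ∈ blk ε X (pt ε i) (pt ε 0) := by
  obtain ⟨j, hj0, hji⟩ := D.exists_letter i
  obtain ⟨d1, d2, d3, d4⟩ := D.disj' hi hj0 hji.symm
  obtain ⟨σ, hs, s1, s2, s3, s4⟩ := exists_even_four D.K.N8 (D.K.ab i hi) d1 d2 d3 d4 (D.K.ab j hj0)
    (D.K.ab i hi) (Ne.symm h1) (Ne.symm h3) (Ne.symm h2) (Ne.symm h4) hcd
  obtain ⟨k, hk, -, k2⟩ := D.exists_alt hs
  have e1 : k * pt ε i * k⁻¹ = pt ε i := by
    rw [D.pt_eq hi, k2, s1, s2]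
  have e2 : k * pt ε j * k⁻¹ = e (pr c d) * ζ := by
    rw [D.pt_eq hj0, k2, s3, s4]
  have h5 : pt ε j ∈ blk ε X (pt ε i) (pt ε 0) := by
    rw [D.blk_pt hi hji.symm]
    exact D.right_mem (D.B.adj_pt hji.symm)
  have h6 : MulAut.conj k • blk ε X (pt ε i) (pt ε 0) = blk ε X (pt ε i) (pt ε 0) := by
    rw [conj_blk, e1, mem_Cn'.1 hk]
  have h7 := mem_conj_of h5 k
  rw [h6, e2] at h7
  have h8 : ζ ∈ blk ε X (pt ε i) (pt ε 0) := by
    have h9 : zpowers (pt ε 0) ≤ blk ε X (pt ε i) (pt ε 0) := by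
      rw [zpowers_le]
      exact D.right_mem (D.B.adj_pt hi)
    exact h9 D.zeta_mem
  have h9 := mul_mem h7 (inv_mem h8)
  rwa [mul_inv_cancel_right] at h9

/-- (3a) -/
theorem three_a {i j : Fin n} (hi : i ≠ 0) (hj : j ≠ 0) (hij : i ≠ j) :
    X ≤ blk ε X (pt ε i) (pt ε 0) ⊔ blk ε X (pt ε j) (pt ε 0) := by
  obtain ⟨d1, d2, d3, d4⟩ := D.disj' hi hj hij
  obtain ⟨f, hf⟩ := exists_out D.K.N8 ({α i, β i, α j, β j} : Finset (Fin N))
    (Finset.card_le_four.trans (by norm_num))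
  simp only [Finset.mem_insert, Finset.mem_singleton, not_or] at hf
  obtain ⟨f1, f2, f3, f4⟩ := hf
  refine D.gen_le fun c d hcd => ?_
  by_cases hc : c = α i ∨ c = β i
  · by_cases hd : d = α j ∨ d = β j
    · have h1 : e (pr c d) = e (pr c f) * e (pr f d) := by
        rw [← D.K.add _ _ (sum_pr c f) (sum_pr f d), pr_add]
      rw [h1]
      refine mul_mem (mem_sup_right (D.perp hj ?_ ?_ ?_ f3 f4)) (mem_sup_left (D.perp hi ?_ f1 f2 ?_ ?_))
      · rintro rfl
        rcases hc with h | h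
        · exact f1 h
        · exact f2 h
      · rcases hc with h | h
        · rw [h]; exact d1
        · rw [h]; exact d3
      · rcases hc with h | h
        · rw [h]; exact d2
        · rw [h]; exact d4
      · rintro rfl
        rcases hd with h | h
        · exact f3 h
        · exact f4 h
      · rcases hd with h | h
        · rw [h]; exact d1.symm
        · rw [h]; exact d2.symm
      · rcases hd with h | h
        · rw [h]; exact d3.symm
        · rw [h]; exact d4.symm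
    · push Not at hd
      refine mem_sup_right (D.perp hj hcd ?_ ?_ hd.1 hd.2)
      · rcases hc with h | h
        · rw [h]; exact d1
        · rw [h]; exact d3
      · rcases hc with h | h
        · rw [h]; exact d2
        · rw [h]; exact d4
  · push Not at hc
    by_cases hd : d = α i ∨ d = β i
    · by_cases hc' : c = α j ∨ c = β j
      · have h1 : e (pr c d) = e (pr c f) * e (pr f d) := by
          rw [← D.K.add _ _ (sum_pr c f) (sum_pr f d), pr_add]
        rw [h1]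
        refine mul_mem (mem_sup_left (D.perp hi ?_ hc.1 hc.2 f1 f2)) (mem_sup_right (D.perp hj ?_ f3 f4 ?_ ?_))
        · rintro rfl
          rcases hc' with h | h
          · exact f3 h
          · exact f4 h
        · rintro rfl
          rcases hd with h | h
          · exact f1 h
          · exact f2 h
        · rcases hd with h | h
          · rw [h]; exact d1
          · rw [h]; exact d3
        · rcases hd with h | h
          · rw [h]; exact d2
          · rw [h]; exact d4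
      · push Not at hc'
        refine mem_sup_right (D.perp hj hcd hc'.1 hc'.2 ?_ ?_)
        · rcases hd with h | h
          · rw [h]; exact d1
          · rw [h]; exact d3
        · rcases hd with h | h
          · rw [h]; exact d2
          · rw [h]; exact d4
    · push Not at hd
      exact mem_sup_left (D.perp hi hcd hc.1 hc.2 hd.1 hd.2)

end Sit

end Cfsg.Agent.Omega.NO3S.SN
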