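import Cfsg.Agent.Omega.S5.Syl
import Cfsg.Agent.Omega.FrameNOFF

/-!
# THEOREM SN (helper62 #15240, `blueprints/OMEGA-NO3S-Sym-helper62.md`): definitions

`V = V_P` the module of the even subsets of `2^m + 1` points for `Sym(2^m + 1)`, `m ≥ 3`, `C_V(O²(P)) = 1`,
implies that `⟨P, C_G(z)⟩` is 2-local.  Interface between the parts:

* `Hyp S P m ε` : the hypotheses (`ε` a labelling of `V = zl S P` with `S` fixing the letter `0`;
  `z = ε (Pi.single 0 1)`, the points of the line `V` are `z_i = ε (Pi.single i 1)`);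
* `U V z y = ⟨V^g : z^g = y⟩`;
* `Blk V ε N X e α β ζ` : **the conclusion of part (2)** (structure of `U_z` and of `C_G(z)` on it): `X` is the block
  of `z` which contains `V`, i.e. `X = [U_z, L]` for the `J`-component `L = A_N` of `C_G(z)/C_G(U_z)` moving `V`,
  `e` its identification with the even subsets of `N` points; `V` = the unions of pairs of the perfect matching
  `{α i, β i}`, `i ≠ 0`;
* `Str S P m ε` : such a block exists (to be proved in part (2)); parts (3), (4): `Hyp` and `Str` contradict each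
  other.
-/

set_option autoImplicit false

namespace Cfsg.Agent.Omega.NO3S.SN

open Subgroup Cfsg Cfsg.Agent.ZN Cfsg.Agent.Omega.MinPar Cfsg.Agent.Omega.Frame Cfsg.Agent.Omega.FrameNOFF
open Cfsg.Agent.Omega.S5.Def Cfsg.Agent.Omega.S5.Syl
open Cfsg.Agent.MinSimple.VModule
open scoped Pointwise

universe u

/-- **The hypotheses of THEOREM SN.** -/
structure Hyp {G : Type u} [Group G] [Finite G] (S : Sylow 2 G) (P : Subgroup G) (m : ℕ)
    (ε : (Fin (2 ^ m + 1) → ZMod 2) → G) : Prop where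
  ctx : Ctx G
  star : IsParS (S : Subgroup G) P
  nonLoc : NonLoc P (CZ (S : Subgroup G))
  m3 : 3 ≤ m
  ev : EvenSet (2 ^ m + 1) (zl (S : Subgroup G) P) P ε
  fix0 : Fix0 ε (S : Subgroup G)

section defs

variable {G : Type u} [Group G]

/-- `U_y`, generated by the lines (conjugates of `V`) on the point `y` (a conjugate of `z`). -/
def U (V : Subgroup G) (z y : G) : Subgroup G :=
  ⨆ g : {g : G // g * z * g⁻¹ = y}, MulAut.conj (g : G) • V

/-- The pair `{a, b}`. -/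
def pr {N : ℕ} (a b : Fin N) : Fin N → ZMod 2 := Pi.single a 1 + Pi.single b 1

/-- **Conclusion of part (2).** `z = ε (single 0 1)`; `U_z` is the central product of the `C_G(z)`-conjugates of
`X`; `X` = even subsets of `N` points. -/
structure Blk {n : ℕ} [NeZero n] (V : Subgroup G) (ε : (Fin n → ZMod 2) → G) (N : ℕ) (X : Subgroup G)
    (e : (Fin N → ZMod 2) → G) (α β : Fin n → Fin N) (ζ : G) : Prop where
  /-- `N = 2^(m+1)` -/
  N8 : 8 ≤ N
  V_le : V ≤ X
  le : X ≤ U V (ε (Pi.single 0 1)) (ε (Pi.single 0 1))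
  /-- `e` identifies the even subsets of `Fin N` with `X` (its values on odd subsets are not used) -/
  add : ∀ x y : Fin N → ZMod 2, ∑ i, x i = 0 → ∑ i, y i = 0 → e (x + y) = e x * e y
  mem : ∀ x : Fin N → ZMod 2, ∑ i, x i = 0 → e x ∈ X
  surj : ∀ g ∈ X, ∃ x : Fin N → ZMod 2, ∑ i, x i = 0 ∧ e x = g
  inj : ∀ x : Fin N → ZMod 2, ∑ i, x i = 0 → e x = 1 → x = 0
  /-- the letters `i ≠ 0` of the line `V` are the pairs of a perfect matching, up to `z` -/
  zeta : ζ = 1 ∨ ζ = ε (Pi.single 0 1)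
  pt : ∀ i, i ≠ 0 → ε (Pi.single i 1) = e (pr (α i) (β i)) * ζ
  ab : ∀ i, i ≠ 0 → α i ≠ β i
  disj : ∀ i j, i ≠ 0 → j ≠ 0 → i ≠ j → α i ≠ α j ∧ α i ≠ β j ∧ β i ≠ β j
  /-- `A_N` is induced by elements of `C_G(z)` -/
  alt : ∀ σ : Equiv.Perm (Fin N), Equiv.Perm.sign σ = 1 →
    ∃ c ∈ centralizer ({ε (Pi.single 0 1)} : Set G), ∀ x : Fin N → ZMod 2, ∑ i, x i = 0 →
      c * e x * c⁻¹ = e (x ∘ σ.symm)
  /-- `N_{C_G(z)}(X)` permutes the pairs -/
  actp : ∀ c ∈ centralizer ({ε (Pi.single 0 1)} : Set G), MulAut.conj c • X = X →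
    ∀ a b, a ≠ b → ∃ a' b', a' ≠ b' ∧ c * e (pr a b) * c⁻¹ = e (pr a' b')
  /-- `X_i ∩ X_j = ⟨z⟩` -/
  inter : ∀ c ∈ centralizer ({ε (Pi.single 0 1)} : Set G), MulAut.conj c • X ≠ X →
    X ⊓ MulAut.conj c • X ≤ zpowers (ε (Pi.single 0 1))
  /-- (2d): `O₂(C_G(z_1))` centralises the other blocks of `z` … -/
  Q1 : ∀ g ∈ o2 (centralizer ({ε (Pi.single 1 1)} : Set G)), ∀ c ∈ centralizer ({ε (Pi.single 0 1)} : Set G),
    MulAut.conj c • X ≠ X → g ∈ centralizer ((MulAut.conj c • X : Subgroup G) : Set G)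
  /-- … and is at most the transposition `(α 1, β 1)` on `X` -/
  Q2 : ∀ g ∈ o2 (centralizer ({ε (Pi.single 1 1)} : Set G)), g ∈ centralizer (X : Set G) ∨
    ∀ x : Fin N → ZMod 2, ∑ i, x i = 0 → g * e x * g⁻¹ = e (x ∘ Equiv.swap (α 1) (β 1))
  /-- the product of the other components has `C_{U_z}(·) = X` … -/
  K1 : U V (ε (Pi.single 0 1)) (ε (Pi.single 0 1)) ⊓ centralizer (oddGen (centralizer (X : Set G)) : Set G) ≤ X
  /-- … and, if there are others, `z ∈ [U_z, ·]` -/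
  K2 : (∃ c ∈ centralizer ({ε (Pi.single 0 1)} : Set G), MulAut.conj c • X ≠ X) →
    ε (Pi.single 0 1) ∈ ⁅U V (ε (Pi.single 0 1)) (ε (Pi.single 0 1)), oddGen (centralizer (X : Set G))⁆

end defs

/-- **The conclusion of part (2).** -/
def Str {G : Type u} [Group G] [Finite G] (S : Sylow 2 G) (P : Subgroup G) (m : ℕ)
    (ε : (Fin (2 ^ m + 1) → ZMod 2) → G) : Prop :=
  ∃ (N : ℕ) (X : Subgroup G) (e : (Fin N → ZMod 2) → G) (α β : Fin (2 ^ m + 1) → Fin N) (ζ : G),
    Blk (zl (S : Subgroup G) P) ε N X e α β ζ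

end Cfsg.Agent.Omega.NO3S.SN
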