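import Cfsg.Agent.Omega.NO3S.SN.Blocks

/-!
# THEOREM SN, part (3): the groups `M`, `X^{(y)}(p) ≠ X^{(p)}(y)`, `ζ = 1`

* `Sit.MM_pt`, `Sit.MM_eq` (3a) : `M(y, p)` depends only on the block `blk y p`;
* `Sit.blk_ne` (C) : `blk y p ≠ blk p y`; `Sit.not_mem` : `e {α 1, c} ∉ blk z_1 z` for `c ≠ α 1, β 1`;
* `Sit.zeta_one` (3c) : `ζ = 1`.
-/

set_option autoImplicit false
set_option linter.unusedSectionVars false

namespace Cfsg.Agent.Omega.NO3S.SN

open Subgroup Cfsg Cfsg.Agent.ZN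
open Cfsg.Agent.Omega.S5.Def
open Cfsg.Agent.MinSimple.VModule
open Cfsg.Agent.MinSimple.CosetFam (o2_conj zc_conj centralizer_conj normalizer_conj)
open Cfsg.Agent.Omega.NoFF.Basic (conj_conj conj_self mem_conj conj_le_iff comm_symm comm_mono conj_le_centralizer)
open scoped Pointwise

universe u

namespace Sit

variable {G : Type u} [Group G] {n : ℕ} [NeZero n] {V P : Subgroup G} {ε : (Fin n → ZMod 2) → G}
  {N : ℕ} {X : Subgroup G} {e : (Fin N → ZMod 2) → G} {α β : Fin n → Fin N} {ζ : G}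
  (D : Sit V P ε N X e α β ζ)
include D

/-! ### (3a) -/

theorem three_a' {i j k : Fin n} (hij : i ≠ j) (hik : i ≠ k) (hjk : j ≠ k) :
    blk ε X (pt ε i) (pt ε j) ≤ blk ε X (pt ε j) (pt ε i) ⊔ blk ε X (pt ε k) (pt ε i) := by
  obtain ⟨w, -, -, hw⟩ := D.B.exists_perm (Equiv.swap 0 i)
  have key : ∀ j, i ≠ j → Equiv.swap 0 i j ≠ 0 := by
    intro j hij h
    have h1 := congrArg (Equiv.swap 0 i) h
    rw [Equiv.swap_apply_self, Equiv.swap_apply_left] at h1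
    exact hij h1.symm
  have h1 := D.three_a (key j hij) (key k hik) (fun h => hjk ((Equiv.swap 0 i).injective h))
  have h2 := conj_le_iff (g := w) |>.2 h1
  rw [smul_sup, conj_blk, conj_blk, hw, hw, hw, Equiv.swap_apply_self, Equiv.swap_apply_self,
    Equiv.swap_apply_left] at h2
  have h3 : MulAut.conj w • X = blk ε X (pt ε i) (pt ε j) := by
    have h4 : i ≠ Equiv.swap 0 i 1 := by
      intro h
      have h5 := congrArg (Equiv.swap 0 i) h
      rw [Equiv.swap_apply_self, Equiv.swap_apply_right] at h5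
      exact D.B.one_ne_zero h5.symm
    rw [D.blk_pt hij h4]
    exact (D.blk_eq' (by rw [hw, Equiv.swap_apply_left]) (hw 1)).symm
  rwa [h3] at h2

theorem blk_le_MM {i j k l : Fin n} (hij : i ≠ j) (hkl : k ≠ l) :
    blk ε X (pt ε k) (pt ε l) ≤ MM ε X (pt ε i) (pt ε j) := by
  by_cases hki : k = i
  · subst hki
    rw [D.blk_pt hkl hij]
    exact le_sup_left
  · by_cases hkj : k = j
    · subst hkj
      rw [D.blk_pt hkl hki]
      exact le_sup_right
    · rw [D.blk_pt hkl hki]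
      refine (D.three_a' hki hkj hij).trans (sup_le ?_ ?_)
      · rw [D.blk_pt (Ne.symm hki) hij]
        exact le_sup_left
      · rw [D.blk_pt (Ne.symm hkj) (Ne.symm hij)]
        exact le_sup_right

/-- (3a) `M` depends only on the line. -/
theorem MM_pt {i j k l : Fin n} (hij : i ≠ j) (hkl : k ≠ l) :
    MM ε X (pt ε k) (pt ε l) = MM ε X (pt ε i) (pt ε j) :=
  le_antisymm (sup_le (D.blk_le_MM hij hkl) (D.blk_le_MM hij (Ne.symm hkl)))
    (sup_le (D.blk_le_MM hkl hij) (D.blk_le_MM hkl (Ne.symm hij)))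

theorem ab1 : α 1 ≠ β 1 := D.K.ab 1 D.B.one_ne_zero

theorem MM_disj {a b c d : Fin N} (h1 : a ≠ b) (h2 : a ≠ c) (h3 : a ≠ d) (h4 : b ≠ c) (h5 : b ≠ d)
    (h6 : c ≠ d) : MM ε X (pt ε 0) (e (pr a b) * ζ) = MM ε X (pt ε 0) (e (pr c d) * ζ) := by
  have h10 := D.B.one_ne_zero
  obtain ⟨j, hj0, hj1⟩ := D.exists_letter 1
  obtain ⟨d1, d2, d3, d4⟩ := D.disj' h10 hj0 hj1.symm
  obtain ⟨σ, hs, s1, s2, s3, s4⟩ := exists_even_four D.K.N8 D.ab1 d1 d2 d3 d4 (D.K.ab j hj0)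
    h1 h2 h3 h4 h5 h6
  obtain ⟨k, hk, -, k2⟩ := D.exists_alt hs
  have e0 := mem_Cn'.1 hk
  have e1 : k * pt ε 1 * k⁻¹ = e (pr a b) * ζ := by
    rw [D.pt_eq h10, k2, s1, s2]
  have e2 : k * pt ε j * k⁻¹ = e (pr c d) * ζ := by
    rw [D.pt_eq hj0, k2, s3, s4]
  have h7 := congrArg (fun A => MulAut.conj k • A) (D.MM_pt (Ne.symm hj0) (Ne.symm h10))
  simp only [conj_MM, e0, e1, e2] at h7
  exact h7

theorem MM_pp {a b : Fin N} (hab : a ≠ b) :
    MM ε X (pt ε 0) (e (pr a b) * ζ) = MM ε X (pt ε 0) (pt ε 1) := by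
  rw [D.pt_eq D.B.one_ne_zero]
  obtain ⟨c, hc⟩ := exists_out D.K.N8 ({a, b, α 1, β 1} : Finset (Fin N))
    (Finset.card_le_four.trans (by norm_num))
  obtain ⟨d, hd⟩ := exists_out D.K.N8 ({a, b, α 1, β 1, c} : Finset (Fin N))
    (Finset.card_le_five.trans (by norm_num))
  simp only [Finset.mem_insert, Finset.mem_singleton, not_or] at hc hd
  rw [D.MM_disj hab (Ne.symm hc.1) (Ne.symm hd.1) (Ne.symm hc.2.1) (Ne.symm hd.2.1) (Ne.symm hd.2.2.2.2)]
  exact (D.MM_disj D.ab1 (Ne.symm hc.2.2.1) (Ne.symm hd.2.2.1) (Ne.symm hc.2.2.2)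
    (Ne.symm hd.2.2.2.1) (Ne.symm hd.2.2.2.2)).symm

/-- A point of the block `X` is a pair. -/
theorem exists_pair {k : G} (hk : k ∈ Cn (pt ε 0)) (hX : MulAut.conj k • X = X) :
    ∃ a b, a ≠ b ∧ k * pt ε 1 * k⁻¹ = e (pr a b) * ζ := by
  obtain ⟨a, b, hab, h1⟩ := D.K.actp k hk hX _ _ D.ab1
  refine ⟨a, b, hab, ?_⟩
  have h2 := D.zeta_comm hk
  have h3 : k * pt ε 1 * k⁻¹ = (k * e (pr (α 1) (β 1)) * k⁻¹) * (k * ζ * k⁻¹) := by
    rw [D.pt_eq D.B.one_ne_zero]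
    group
  rw [h3, h1, h2]

/-- (3a) `M(y, p)` depends only on the block of `y` containing `p`. -/
theorem MM_eq {y p q : G} (h : Adj ε y p) (h' : Adj ε y q) (hb : blk ε X y q = blk ε X y p) :
    MM ε X y q = MM ε X y p := by
  obtain ⟨g, h0, h1⟩ := h
  obtain ⟨k, k0, k1⟩ := h'
  rw [D.blk_eq' h0 h1, D.blk_eq' k0 k1] at hb
  have hc : (g⁻¹ * k) * pt ε 0 * (g⁻¹ * k)⁻¹ = pt ε 0 := by
    have h3 : (g⁻¹ * k) * pt ε 0 * (g⁻¹ * k)⁻¹ = g⁻¹ * (k * pt ε 0 * k⁻¹) * g := by group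
    rw [h3, k0, ← h0]
    group
  have hX : MulAut.conj (g⁻¹ * k) • X = X := by
    rw [← conj_conj, hb, conj_conj, inv_mul_cancel, map_one, one_smul]
  obtain ⟨a, b, hab, h2⟩ := D.exists_pair (mem_Cn'.2 hc) hX
  have h3 := congrArg (fun A => MulAut.conj g • A) (D.MM_pp hab)
  simp only [← h2, conj_MM, h0, h1] at h3
  have h4 : g * (g⁻¹ * k * pt ε 1 * (g⁻¹ * k)⁻¹) * g⁻¹ = q := by
    rw [← k1]
    group
  rwa [h4] at h3

/-! ### (C) -/

/-- (C) -/
theorem blk_ne {y p : G} (h : Adj ε y p) : blk ε X y p ≠ blk ε X p y := by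
  intro heq
  have hall : ∀ y p, Adj ε y p → blk ε X y p = blk ε X p y := by
    obtain ⟨g, h0, h1⟩ := h
    have h2 : blk ε X (pt ε 0) (pt ε 1) = blk ε X (pt ε 1) (pt ε 0) := by
      have h3 := congrArg (fun A => MulAut.conj g⁻¹ • A) heq
      simp only [conj_blk, ← h0, ← h1] at h3
      have h4 : ∀ a : G, g⁻¹ * (g * a * g⁻¹) * g⁻¹⁻¹ = a := fun a => by group
      rwa [h4, h4] at h3
    rintro _ _ ⟨k, rfl, rfl⟩
    rw [← conj_blk, ← conj_blk, h2]
  have hQ : ∀ y p, Adj ε y p → Qn p ≤ centralizer (U V (pt ε 0) y : Set G) := by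
    intro y p h
    refine comm_symm (D.U_le_of fun q hq => ?_)
    by_cases hqp : blk ε X y q = blk ε X y p
    · rw [hqp, hall y p h]
      exact comm_symm ((D.B.Qn_le p).trans (centralizer_le (D.blk_le_U (D.B.adj_symm h))))
    · exact comm_symm (D.Q1' h hq hqp)
  obtain ⟨k, x, y, hc⟩ := D.B.exists_crit
  obtain ⟨l, rfl⟩ := D.B.crit_pos hc
  have hw := hc.walk
  cases hw with
  | step hxp hpy => exact hc.ne ((D.B.crit_le_Qn hc hxp).trans (hQ _ _ (D.B.adj_symm hpy)))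

omit D in
theorem card_conj (g : G) (A : Subgroup G) : Nat.card (MulAut.conj g • A : Subgroup G) = Nat.card A :=
  Nat.card_congr (Subgroup.equivSMul (MulAut.conj g) A).toEquiv.symm

theorem card_blk {y p : G} (h : Adj ε y p) : Nat.card (blk ε X y p) = Nat.card X := by
  obtain ⟨g, h0, h1⟩ := h
  rw [D.blk_eq' h0 h1, card_conj]

theorem not_mem [Finite G] {c : Fin N} (h1 : c ≠ α 1) (h2 : c ≠ β 1) :
    e (pr (α 1) c) ∉ blk ε X (pt ε 1) (pt ε 0) := by
  intro hmem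
  have h10 := D.B.one_ne_zero
  have hz : e (pr (α 1) (β 1)) ∈ blk ε X (pt ε 1) (pt ε 0) := by
    have h3 : e (pr (α 1) (β 1)) = pt ε 1 * ζ⁻¹ := by
      rw [D.pt_eq h10, mul_inv_cancel_right]
    rw [h3]
    refine mul_mem (D.left_mem (D.B.adj_pt h10)) (inv_mem ?_)
    have h9 : zpowers (pt ε 0) ≤ blk ε X (pt ε 1) (pt ε 0) := by
      rw [zpowers_le]
      exact D.right_mem (D.B.adj_pt h10)
    exact h9 D.zeta_mem
  have key : ∀ d, d ≠ α 1 → d ≠ β 1 → e (pr (α 1) d) ∈ blk ε X (pt ε 1) (pt ε 0) := by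
    intro d hd1 hd2
    by_cases hcd : c = d
    · rw [← hcd]
      exact hmem
    · have h3 : e (pr (α 1) d) = e (pr (α 1) c) * e (pr c d) := by
        rw [← D.K.add _ _ (sum_pr _ _) (sum_pr _ _), pr_add]
      rw [h3]
      exact mul_mem hmem (D.perp h10 hcd h1 h2 hd1 hd2)
  have key2 : ∀ d, d ≠ α 1 → d ≠ β 1 → e (pr (β 1) d) ∈ blk ε X (pt ε 1) (pt ε 0) := by
    intro d hd1 hd2
    have h3 : e (pr (β 1) d) = e (pr (α 1) (β 1)) * e (pr (α 1) d) := by
      rw [← D.K.add _ _ (sum_pr _ _) (sum_pr _ _), pr_comm (α 1) (β 1), pr_add]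
    rw [h3]
    exact mul_mem hz (key d hd1 hd2)
  have hle : X ≤ blk ε X (pt ε 1) (pt ε 0) := by
    refine D.gen_le fun a b hab => ?_
    by_cases ha1 : a = α 1
    · subst ha1
      by_cases hb : b = β 1
      · rw [hb]
        exact hz
      · exact key b hab.symm hb
    · by_cases ha2 : a = β 1
      · subst ha2
        by_cases hb : b = α 1
        · rw [hb, pr_comm]
          exact hz
        · exact key2 b hb hab.symm
      · by_cases hb1 : b = α 1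
        · subst hb1
          rw [pr_comm]
          exact key a ha1 ha2
        · by_cases hb2 : b = β 1
          · subst hb2
            rw [pr_comm]
            exact key2 a ha1 ha2
          · exact D.perp h10 hab ha1 ha2 hb1 hb2
  have hadj := D.B.adj_pt (i := 0) (j := 1) (Ne.symm h10)
  apply D.blk_ne hadj
  rw [D.blk_z]
  exact Subgroup.eq_of_le_of_card_ge hle (D.card_blk (D.B.adj_symm hadj)).le

/-! ### (3c) -/

theorem X_comm {a b : G} (ha : a ∈ X) (hb : b ∈ X) : a * b = b * a :=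
  ((mem_centralizer_iff.1 (D.B.U_comm _ (D.K.le ha)) b (D.K.le hb))).symm

theorem X_sq {a : G} (ha : a ∈ X) : a * a = 1 := by
  have h := D.B.U_sq _ a (D.K.le ha)
  rwa [pow_two] at h

theorem e_inj {x y : Fin N → ZMod 2} (hx : ∑ i, x i = 0) (hy : ∑ i, y i = 0) (h : e x = e y) : x = y := by
  refine eq_of_add_eq_zero (D.K.inj _ (sum_add hx hy) ?_)
  rw [D.K.add _ _ hx hy, h, D.X_sq (D.K.mem _ hy)]

theorem e_mem (a b : Fin N) : e (pr a b) ∈ X := D.K.mem _ (sum_pr a b)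

theorem zeta_mem_X : ζ ∈ X := by
  have h9 : zpowers (pt ε 0) ≤ X := by
    rw [zpowers_le]
    exact D.pt_mem_X 0
  exact h9 D.zeta_mem

/-- An element of `C(z) ∩ C(z_1)` maps pairs disjoint from `{α 1, β 1}` to pairs not containing `α 1`. -/
theorem off_pair {k : G} (hk : k ∈ Cn (pt ε 0)) (hk1 : k ∈ Cn (pt ε 1)) {j : Fin n} (hj0 : j ≠ 0)
    (hj1 : j ≠ 1) : ∃ v : Fin N → ZMod 2, ∑ i, v i = 0 ∧ v (α 1) = 0 ∧ k * pt ε j * k⁻¹ = e v * ζ := by
  have h10 := D.B.one_ne_zero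
  have hX : MulAut.conj k • X = X := by
    refine D.conj_X_eq hk (D.pt_mem_X 1) ?_ (D.pt_notMem h10)
    have h1 := mem_conj_of (D.pt_mem_X 1) k
    rwa [mem_Cn'.1 hk1] at h1
  have hX' : MulAut.conj k⁻¹ • X = X := by
    have h1 := congrArg (fun A => MulAut.conj k⁻¹ • A) hX
    simp only [conj_conj, inv_mul_cancel, map_one, one_smul] at h1
    exact h1.symm
  obtain ⟨a, b, hab, h1⟩ := D.K.actp k hk hX _ _ (D.K.ab j hj0)
  obtain ⟨d1, d2, d3, d4⟩ := D.disj' h10 hj0 hj1.symm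
  have h1' : k * e (pr (α 1) (β 1)) * k⁻¹ = e (pr (α 1) (β 1)) := by
    have h2 : e (pr (α 1) (β 1)) = pt ε 1 * ζ⁻¹ := by
      rw [D.pt_eq h10, mul_inv_cancel_right]
    have h3 : k * e (pr (α 1) (β 1)) * k⁻¹ = (k * pt ε 1 * k⁻¹) * (k * ζ * k⁻¹)⁻¹ := by
      rw [h2]
      group
    rw [h3, mem_Cn'.1 hk1, D.zeta_comm hk, ← h2]
  have h2 : k * pt ε j * k⁻¹ = e (pr a b) * ζ := by
    have h3 : k * pt ε j * k⁻¹ = (k * e (pr (α j) (β j)) * k⁻¹) * (k * ζ * k⁻¹) := by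
      rw [D.pt_eq hj0]
      group
    rw [h3, h1, D.zeta_comm hk]
  have key : ∀ a b, k * e (pr (α j) (β j)) * k⁻¹ = e (pr a b) → a ≠ α 1 := by
    intro a b h1 ha
    by_cases hb : b = β 1
    · rw [ha, hb, ← h1', conj_mul_inj] at h1
      have h4 := congrFun (D.e_inj (sum_pr _ _) (sum_pr _ _) h1) (α 1)
      simp only [pr_apply, d1, d2, D.ab1, if_true, if_false] at h4
      exact absurd h4 (by decide)
    · have h3 : k⁻¹ * e (pr b (β 1)) * k⁻¹⁻¹ = e (pr (α j) (β j) + pr (α 1) (β 1)) := by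
        have h4 : e (pr b (β 1)) = e (pr a b) * e (pr (α 1) (β 1)) := by
          rw [← D.K.add _ _ (sum_pr _ _) (sum_pr _ _), ha, pr_comm (α 1) b, pr_add]
        have h5 : k⁻¹ * e (pr b (β 1)) * k⁻¹⁻¹ =
            (k⁻¹ * e (pr a b) * k) * (k⁻¹ * e (pr (α 1) (β 1)) * k) := by
          rw [h4]
          group
        rw [h5, D.K.add _ _ (sum_pr _ _) (sum_pr _ _), ← h1]
        have h6 : k⁻¹ * e (pr (α 1) (β 1)) * k = e (pr (α 1) (β 1)) := by
          nth_rewrite 1 [← h1']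
          group
        rw [h6]
        group
      obtain ⟨a2, b2, -, h4⟩ := D.K.actp k⁻¹ (inv_mem hk) hX' _ _ hb
      rw [h3] at h4
      have h5 := D.e_inj (sum_add (sum_pr _ _) (sum_pr _ _)) (sum_pr _ _) h4
      have q1 := congrFun h5 (α 1)
      have q2 := congrFun h5 (β 1)
      have q3 := congrFun h5 (α j)
      have ab1 := D.ab1
      simp only [Pi.add_apply, pr_apply, d1, d2, d3, d4, D.ab1, d1.symm, d2.symm, d3.symm, d4.symm,
        D.ab1.symm, D.K.ab j hj0, if_true, if_false] at q1 q2 q3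
      have p1 : α 1 = a2 ∨ α 1 = b2 := by
        by_contra hcon
        push Not at hcon
        simp only [hcon.1, hcon.2, if_false] at q1
        exact absurd q1 (by decide)
      have p2 : β 1 = a2 ∨ β 1 = b2 := by
        by_contra hcon
        push Not at hcon
        simp only [hcon.1, hcon.2, if_false] at q2
        exact absurd q2 (by decide)
      have p3 : α j = a2 ∨ α j = b2 := by
        by_contra hcon
        push Not at hcon
        simp only [hcon.1, hcon.2, if_false] at q3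
        exact absurd q3 (by decide)
      rcases p1 with p1 | p1 <;> rcases p2 with p2 | p2 <;> rcases p3 with p3 | p3
      · exact ab1 (p1.trans p2.symm)
      · exact ab1 (p1.trans p2.symm)
      · exact d1 (p1.trans p3.symm)
      · exact d3 (p2.trans p3.symm)
      · exact d3 (p2.trans p3.symm)
      · exact d1 (p1.trans p3.symm)
      · exact ab1 (p1.trans p2.symm)
      · exact ab1 (p1.trans p2.symm)
  refine ⟨pr a b, sum_pr a b, ?_, h2⟩
  have ha := key a b h1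
  have hb := key b a (by rw [h1, pr_comm])
  simp only [pr_apply, Ne.symm ha, Ne.symm hb, if_false, add_zero]

/-- (3c) -/
theorem zeta_one : ζ = 1 := by
  rcases D.K.zeta with hζ | hζ
  · exact hζ
  exfalso
  have h10 := D.B.one_ne_zero
  obtain ⟨j, hj0, hj1⟩ := D.exists_letter 1
  obtain ⟨w, -, -, hw⟩ := D.B.exists_perm (Equiv.swap 0 1)
  have w0 : w * pt ε 0 * w⁻¹ = pt ε 1 := by rw [hw, Equiv.swap_apply_left]
  have w1 : w * pt ε 1 * w⁻¹ = pt ε 0 := by rw [hw, Equiv.swap_apply_right]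
  have wj : w * pt ε j * w⁻¹ = pt ε j := by rw [hw, Equiv.swap_apply_of_ne_of_ne hj0 hj1]
  have key : ∀ a b, a ≠ b → a ≠ α 1 → a ≠ β 1 → b ≠ α 1 → b ≠ β 1 →
      ∃ v : Fin N → ZMod 2, ∑ i, v i = 0 ∧ v (α 1) = 0 ∧ w * (e (pr a b) * ζ) * w⁻¹ = e v * ζ := by
    intro a b hab ha1 ha2 hb1 hb2
    obtain ⟨d1, d2, d3, d4⟩ := D.disj' h10 hj0 hj1.symm
    obtain ⟨σ, hs, s1, s2, s3, s4⟩ := exists_even_four D.K.N8 D.ab1 d1 d2 d3 d4 (D.K.ab j hj0)
      D.ab1 (Ne.symm ha1) (Ne.symm hb1) (Ne.symm ha2) (Ne.symm hb2) hab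
    obtain ⟨k, hk, -, k2⟩ := D.exists_alt hs
    have e1 : k * pt ε 1 * k⁻¹ = pt ε 1 := by
      rw [D.pt_eq h10, k2, s1, s2]
    have e2 : k * pt ε j * k⁻¹ = e (pr a b) * ζ := by
      rw [D.pt_eq hj0, k2, s3, s4]
    have m1 : w * k * w⁻¹ ∈ Cn (pt ε 0) := by
      rw [← w1, ← conj_Cn]
      exact mem_conj_of (mem_Cn'.2 e1) w
    have m2 : w * k * w⁻¹ ∈ Cn (pt ε 1) := by
      rw [← w0, ← conj_Cn]
      exact mem_conj_of hk w
    obtain ⟨v, v1, v2, v3⟩ := D.off_pair m1 m2 hj0 hj1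
    refine ⟨v, v1, v2, ?_⟩
    rw [← v3, ← e2]
    nth_rewrite 2 [← wj]
    group
  obtain ⟨a, ha⟩ := exists_out D.K.N8 ({α 1, β 1} : Finset (Fin N))
    (Finset.card_le_two.trans (by norm_num))
  obtain ⟨b, hb⟩ := exists_out D.K.N8 ({α 1, β 1, a} : Finset (Fin N))
    (Finset.card_le_three.trans (by norm_num))
  obtain ⟨c, hc⟩ := exists_out D.K.N8 ({α 1, β 1, a, b} : Finset (Fin N))
    (Finset.card_le_four.trans (by norm_num))
  simp only [Finset.mem_insert, Finset.mem_singleton, not_or] at ha hb hc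
  obtain ⟨v1, p1, q1, r1⟩ := key a b (Ne.symm hb.2.2) ha.1 ha.2 hb.1 hb.2.1
  obtain ⟨v2, p2, q2, r2⟩ := key b c (Ne.symm hc.2.2.2) hb.1 hb.2.1 hc.1 hc.2.1
  obtain ⟨v3, p3, q3, r3⟩ := key a c (Ne.symm hc.2.2.1) ha.1 ha.2 hc.1 hc.2.1
  have hzz : ∀ x y : G, x ∈ X → y ∈ X → (x * ζ) * (y * ζ) = x * y := by
    intro x y _ hy
    have h1 := D.X_comm hy D.zeta_mem_X
    have h2 := D.X_sq D.zeta_mem_X
    calc (x * ζ) * (y * ζ) = x * ζ * (y * ζ) := rfl
      _ = x * ζ * (ζ * y) := by rw [h1]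
      _ = x * (ζ * ζ) * y := by group
      _ = x * y := by rw [h2, mul_one]
  -- the product of the three points
  have t1 : (e (pr a b) * ζ) * (e (pr b c) * ζ) * (e (pr a c) * ζ) = ζ := by
    rw [hzz _ _ (D.e_mem _ _) (D.e_mem _ _), ← D.K.add _ _ (sum_pr _ _) (sum_pr _ _), pr_add, ← mul_assoc,
      D.X_sq (D.e_mem _ _), one_mul]
  have t2 : (e v1 * ζ) * (e v2 * ζ) * (e v3 * ζ) = e (v1 + v2 + v3) * ζ := by
    rw [hzz _ _ (D.K.mem _ p1) (D.K.mem _ p2), ← D.K.add _ _ p1 p2, ← mul_assoc,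
      ← D.K.add _ _ (sum_add p1 p2) p3]
  have t3 : w * ((e (pr a b) * ζ) * (e (pr b c) * ζ) * (e (pr a c) * ζ)) * w⁻¹ = e (v1 + v2 + v3) * ζ := by
    rw [← t2, ← r1, ← r2, ← r3]
    group
  rw [t1] at t3
  have t4 : w * ζ * w⁻¹ = pt ε 1 := by
    rw [hζ]
    exact w0
  rw [t4, D.pt_eq h10] at t3
  have t5 := D.e_inj (sum_pr _ _) (sum_add (sum_add p1 p2) p3) (mul_right_cancel t3)
  have t6 := congrFun t5 (α 1)
  simp only [Pi.add_apply, q1, q2, q3, pr_apply, D.ab1, if_true, if_false] at t6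
  exact absurd t6 (by decide)

end Sit

end Cfsg.Agent.Omega.NO3S.SN
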