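import Cfsg.Agent.Omega.NO3S.SN.Em

/-!
# THEOREM SN, parts (3d) and (4): the end

* `Sit.comm_zpowers` : `[Q_p, U_y] ≤ ⟨p⟩` for collinear `y`, `p`;
* `Sit.crit_two` : critical pairs have distance 2; `Sit.crit_unique` : a unique common neighbour;
* `Sit.false`; `false_of_str` : **`Hyp` and `Str` (the conclusion of part (2)) contradict each other**.
-/

set_option autoImplicit false
set_option linter.unusedSectionVars false

namespace Cfsg.Agent.Omega.NO3S.SN

open Subgroup Cfsg Cfsg.Agent.ZN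
open Cfsg.Agent.Omega.S5.Def
open Cfsg.Agent.MinSimple.VModule
open Cfsg.Agent.MinSimple.CosetFam (o2_conj zc_conj centralizer_conj normalizer_conj)
open Cfsg.Agent.Omega.NoFF.Basic (conj_conj conj_self mem_conj conj_le_iff comm_symm comm_mono conj_le_centralizer)
open scoped Pointwise

universe u

/-- The elements of an abelian group whose commutator with `x` is in `⟨p⟩`. -/
theorem exists_comm {G : Type u} [Group G] {A : Subgroup G} (hA : A ≤ centralizer (A : Set G)) {p : G}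
    (hp : p ∈ A) (x : G) : ∃ T : Subgroup G, ∀ u, u ∈ T ↔ u ∈ A ∧ x * u * x⁻¹ * u⁻¹ ∈ zpowers p := by
  have hc : ∀ d ∈ zpowers p, ∀ u ∈ A, u * d * u⁻¹ = d := by
    intro d hd u hu
    have h1 : zpowers p ≤ A := by
      rw [zpowers_le]
      exact hp
    have h2 := mem_centralizer_iff.1 (hA (h1 hd)) u hu
    rw [h2, mul_inv_cancel_right]
  refine ⟨{ carrier := {u | u ∈ A ∧ x * u * x⁻¹ * u⁻¹ ∈ zpowers p}
            one_mem' := ⟨one_mem _, by simp⟩
            mul_mem' := ?_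
            inv_mem' := ?_ }, fun u => Iff.rfl⟩
  · rintro u v ⟨hu, hu'⟩ ⟨hv, hv'⟩
    refine ⟨mul_mem hu hv, ?_⟩
    have h1 : x * (u * v) * x⁻¹ * (u * v)⁻¹ = (x * u * x⁻¹ * u⁻¹) * (u * (x * v * x⁻¹ * v⁻¹) * u⁻¹) := by group
    rw [h1, hc _ hv' u hu]
    exact mul_mem hu' hv'
  · rintro u ⟨hu, hu'⟩
    refine ⟨inv_mem hu, ?_⟩
    have h1 : x * u⁻¹ * x⁻¹ * u⁻¹⁻¹ = u⁻¹ * (x * u * x⁻¹ * u⁻¹)⁻¹ * u⁻¹⁻¹ := by group
    rw [h1, hc _ (inv_mem hu') _ (inv_mem hu)]
    exact inv_mem hu'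

theorem swap_comp {N : ℕ} {a b : Fin N} (hab : a ≠ b) (v : Fin N → ZMod 2) :
    v ∘ Equiv.swap a b = v ∨ v ∘ Equiv.swap a b = v + pr a b := by
  have h01 : ∀ s t : ZMod 2, s ≠ t → s = t + 1 := by decide
  by_cases h : v a = v b
  · left
    funext i
    by_cases hia : i = a
    · rw [hia, Function.comp_apply, Equiv.swap_apply_left, h]
    · by_cases hib : i = b
      · rw [hib, Function.comp_apply, Equiv.swap_apply_right, h]
      · rw [Function.comp_apply, Equiv.swap_apply_of_ne_of_ne hia hib]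
  · right
    funext i
    rw [Pi.add_apply, pr_apply]
    by_cases hia : i = a
    · rw [hia, Function.comp_apply, Equiv.swap_apply_left, if_pos rfl, if_neg hab, add_zero]
      exact h01 _ _ (Ne.symm h)
    · by_cases hib : i = b
      · rw [hib, Function.comp_apply, Equiv.swap_apply_right, if_pos rfl, if_neg hab.symm, zero_add]
        exact h01 _ _ h
      · rw [Function.comp_apply, Equiv.swap_apply_of_ne_of_ne hia hib, if_neg hia, if_neg hib, add_zero,
          add_zero]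

namespace Sit

variable {G : Type u} [Group G] {n : ℕ} [NeZero n] {V P : Subgroup G} {ε : (Fin n → ZMod 2) → G}
  {N : ℕ} {X : Subgroup G} {e : (Fin N → ZMod 2) → G} {α β : Fin n → Fin N} {ζ : G}
  (D : Sit V P ε N X e α β ζ)
include D

theorem pt_one : pt ε 1 = e (pr (α 1) (β 1)) := by
  rw [D.pt_eq D.B.one_ne_zero, D.zeta_one, mul_one]

/-- `[Q_p, U_y] ≤ ⟨p⟩`. -/
theorem comm_zpowers {y p x u : G} (h : Adj ε y p) (hx : x ∈ Qn p) (hu : u ∈ U V (pt ε 0) y) :
    x * u * x⁻¹ * u⁻¹ ∈ zpowers p := by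
  obtain ⟨T, hT⟩ := exists_comm (D.B.U_comm y) (D.B.mem_U h) x
  suffices h1 : U V (pt ε 0) y ≤ T from ((hT u).1 (h1 hu)).2
  refine D.U_le_of fun q hq => ?_
  intro v hv
  rw [hT]
  refine ⟨D.blk_le_U hq hv, ?_⟩
  have hone : x ∈ centralizer (blk ε X y q : Set G) → x * v * x⁻¹ * v⁻¹ ∈ zpowers p := by
    intro h2
    have h3 := mem_centralizer_iff.1 h2 v hv
    rw [← h3]
    simp
  by_cases hqp : blk ε X y q = blk ε X y p
  · obtain ⟨g, h0, h1⟩ := h
    rcases D.Q2' h1 hx with h2 | h2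
    · apply hone
      rw [hqp, D.blk_eq' h0 h1]
      exact h2
    · rw [hqp, D.blk_eq' h0 h1, mem_conj] at hv
      obtain ⟨t, ht, hte⟩ := D.K.surj _ hv
      have hv2 : v = g * e t * g⁻¹ := by
        rw [hte]
        group
      have h3 := h2 t ht
      rw [← hv2] at h3
      rw [h3]
      rcases swap_comp D.ab1 t with h4 | h4
      · rw [h4, ← hv2, mul_inv_cancel]
        exact one_mem _
      · rw [h4, D.K.add _ _ ht (sum_pr _ _)]
        have h5 : g * (e t * e (pr (α 1) (β 1))) * g⁻¹ * v⁻¹ = p := by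
          rw [D.X_comm (D.K.mem _ ht) (D.e_mem _ _), ← D.pt_one, hv2, ← h1]
          group
        rw [h5]
        exact mem_zpowers _
  · exact hone (D.Q1' h hq hqp hx)

theorem crit_comm {k : ℕ} {x y p g u : G} (h : Crit V ε (k + 1) x y) (h1 : Walk ε k x p) (h2 : Adj ε p y)
    (hg : g ∈ U V (pt ε 0) x) (hu : u ∈ U V (pt ε 0) y) : g * u * g⁻¹ * u⁻¹ ∈ zpowers p :=
  D.comm_zpowers (D.B.adj_symm h2) (D.B.crit_le_Qn h h1 hg) hu

omit D in
/-- A critical pair has a nontrivial commutator. -/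
theorem exists_ne {k : ℕ} {x y : G} (h : Crit V ε k x y) : ∃ g ∈ U V (pt ε 0) x, ∃ u ∈ U V (pt ε 0) y,
    g * u * g⁻¹ * u⁻¹ ≠ 1 := by
  by_contra hcon
  push Not at hcon
  apply h.ne
  intro g hg
  rw [mem_centralizer_iff]
  intro u hu
  have h1 := hcon g hg u hu
  rw [mul_inv_eq_one, mul_inv_eq_iff_eq_mul] at h1
  exact h1.symm

/-- (3d) Critical pairs have distance 2. -/
theorem crit_two {k : ℕ} {x y : G} (h : Crit V ε k x y) : k = 2 := by
  obtain ⟨l, rfl⟩ := D.B.crit_pos h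
  obtain ⟨g, hg, u, hu, hne⟩ := exists_ne h
  obtain ⟨p', hxp', hp'y⟩ := D.B.walk_cases h.walk
  have hw := h.walk
  cases hw with
  | @step _ _ p _ hxp hpy =>
    have hp2 : p ^ 2 = 1 := D.B.sq_of hpy.left
    have hp'2 : p' ^ 2 = 1 := D.B.sq_of (D.B.adj_symm hxp').left
    have h1 : g * u * g⁻¹ * u⁻¹ = p :=
      ((mem_zpowers_iff_of_sq hp2).1 (D.crit_comm h hxp hpy hg hu)).resolve_left hne
    have h2 : u * g * u⁻¹ * g⁻¹ = p' := by
      refine ((mem_zpowers_iff_of_sq hp'2).1 (D.crit_comm (D.B.crit_symm h) (D.B.walk_symm hp'y)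
        (D.B.adj_symm hxp') hu hg)).resolve_left fun h3 => hne ?_
      have h4 : g * u * g⁻¹ * u⁻¹ = (u * g * u⁻¹ * g⁻¹)⁻¹ := by group
      rw [h4, h3, inv_one]
    have h3 : p' = p := by
      have h4 : u * g * u⁻¹ * g⁻¹ = (g * u * g⁻¹ * u⁻¹)⁻¹ := by group
      rw [← h2, h4, h1]
      rw [pow_two] at hp2
      exact inv_eq_of_mul_eq_one_left hp2
    rw [h3] at hxp'
    rcases l with _ | l
    · exact absurd hxp.zero_eq (D.B.adj_ne hxp')
    · rcases l with _ | l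
      · rfl
      · exact absurd (h.min 2 (by omega) _ _ (hxp'.walk.step hpy)) h.ne

/-- (3d) The common neighbour of a critical pair is unique. -/
theorem crit_unique {x y p q : G} (h : Crit V ε 2 x y) (h1 : Adj ε x p) (h2 : Adj ε p y) (h3 : Adj ε x q)
    (h4 : Adj ε q y) : p = q := by
  obtain ⟨g, hg, u, hu, hne⟩ := exists_ne h
  have e1 := ((mem_zpowers_iff_of_sq (D.B.sq_of h2.left)).1 (D.crit_comm h h1.walk h2 hg hu)).resolve_left hne
  have e2 := ((mem_zpowers_iff_of_sq (D.B.sq_of h4.left)).1 (D.crit_comm h h3.walk h4 hg hu)).resolve_left hne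
  rw [← e1, e2]

/-! ### Index 2 -/

theorem gen_mem {A : Subgroup G} (a : Fin N) {x : Fin N → ZMod 2} (hx : ∑ i, x i = 0)
    (h : ∀ j, x j ≠ 0 → a ≠ j → e (pr a j) ∈ A) : e x ∈ A := by
  have h01 : ∀ t : ZMod 2, t = 0 ∨ t = 1 := by decide
  have key : ∀ s : Finset (Fin N), ∑ i, (∑ j ∈ s, x j • pr a j) i = 0 ∧ e (∑ j ∈ s, x j • pr a j) ∈ A := by
    intro s
    induction s using Finset.induction_on with
    | empty =>
      rw [Finset.sum_empty, D.e_zero]
      exact ⟨by simp, one_mem _⟩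
    | insert j s hj ih =>
      rw [Finset.sum_insert hj]
      have h1 : ∑ i, (x j • pr a j) i = 0 ∧ e (x j • pr a j) ∈ A := by
        rcases h01 (x j) with h2 | h2
        · rw [h2, zero_smul, D.e_zero]
          exact ⟨by simp, one_mem _⟩
        · have h4 : x j ≠ 0 := by
            rw [h2]
            exact one_ne_zero
          rw [h2, one_smul]
          refine ⟨sum_pr a j, ?_⟩
          by_cases h3 : a = j
          · rw [h3, pr_self, D.e_zero]
            exact one_mem _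
          · exact h j h4 h3
      refine ⟨sum_add h1.1 ih.1, ?_⟩
      rw [D.K.add _ _ h1.1 ih.1]
      exact mul_mem h1.2 ih.2
  have h2 : ∑ j, x j • pr a j = x := by
    funext i
    rw [Finset.sum_apply]
    simp only [Pi.smul_apply, pr_apply, smul_eq_mul, mul_add, mul_ite, mul_one, mul_zero,
      Finset.sum_add_distrib]
    rw [Finset.sum_ite_eq, if_pos (Finset.mem_univ i)]
    by_cases h3 : i = a
    · simp only [h3, if_true, hx, zero_add]
    · simp only [h3, if_false, Finset.sum_const_zero, zero_add]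
  have h3 := (key Finset.univ).2
  rwa [h2] at h3

theorem e_ab_mem : e (pr (α 1) (β 1)) ∈ blk ε X (pt ε 1) (pt ε 0) := by
  rw [← D.pt_one]
  exact D.left_mem (D.B.adj_pt D.B.one_ne_zero)

/-- `blk z_1 z` contains `{α 1, β 1}^⊥`. -/
theorem mem_of_eq {x : Fin N → ZMod 2} (hx : ∑ i, x i = 0) (h : x (α 1) = x (β 1)) :
    e x ∈ blk ε X (pt ε 1) (pt ε 0) := by
  have h10 := D.B.one_ne_zero
  have key : ∀ x : Fin N → ZMod 2, ∑ i, x i = 0 → x (α 1) = 0 → x (β 1) = 0 →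
      e x ∈ blk ε X (pt ε 1) (pt ε 0) := by
    intro x hx h1 h2
    obtain ⟨a, ha⟩ := exists_out D.K.N8 ({α 1, β 1} : Finset (Fin N))
      (Finset.card_le_two.trans (by norm_num))
    simp only [Finset.mem_insert, Finset.mem_singleton, not_or] at ha
    refine D.gen_mem a hx fun j hj haj => D.perp h10 haj ha.1 ha.2 ?_ ?_
    · rintro rfl
      exact hj h1
    · rintro rfl
      exact hj h2
  have h01 : ∀ t : ZMod 2, t = 0 ∨ t = 1 := by decide
  rcases h01 (x (α 1)) with h1 | h1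
  · exact key x hx h1 (by rw [← h]; exact h1)
  · have h2 := key (x + pr (α 1) (β 1)) (sum_add hx (sum_pr _ _))
      (by
        rw [Pi.add_apply, pr_apply, h1, if_pos rfl, if_neg D.ab1]
        decide)
      (by
        rw [Pi.add_apply, pr_apply, ← h, h1, if_pos rfl, if_neg D.ab1.symm]
        decide)
    rw [D.K.add _ _ hx (sum_pr _ _)] at h2
    have h3 := mul_mem h2 (inv_mem D.e_ab_mem)
    rwa [mul_inv_cancel_right] at h3

/-- `|blk y p : blk y p ∩ blk p y| ≤ 2`. -/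
theorem index_two {y p a b : G} (h : Adj ε y p) (ha : a ∈ blk ε X y p) (hb : b ∈ blk ε X y p)
    (ha' : a ∉ blk ε X p y) (hb' : b ∉ blk ε X p y) : a * b⁻¹ ∈ blk ε X p y := by
  obtain ⟨g, h0, h1⟩ := h
  have e1 : blk ε X p y = MulAut.conj g • blk ε X (pt ε 1) (pt ε 0) := by
    rw [conj_blk, h0, h1]
  rw [e1, mem_conj] at ha' hb' ⊢
  rw [D.blk_eq' h0 h1, mem_conj] at ha hb
  obtain ⟨x, hx, hxa⟩ := D.K.surj _ ha
  obtain ⟨x', hx', hxb⟩ := D.K.surj _ hb
  have h2 : g⁻¹ * (a * b⁻¹) * g = (g⁻¹ * a * g) * (g⁻¹ * b * g)⁻¹ := by group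
  have h3 : (g⁻¹ * b * g)⁻¹ = g⁻¹ * b * g := inv_eq_of_mul_eq_one_left (D.X_sq hb)
  rw [h2, h3, ← hxa, ← hxb, ← D.K.add _ _ hx hx']
  have h4 : x (α 1) ≠ x (β 1) := fun h5 => ha' (by rw [← hxa]; exact D.mem_of_eq hx h5)
  have h5 : x' (α 1) ≠ x' (β 1) := fun h5 => hb' (by rw [← hxb]; exact D.mem_of_eq hx' h5)
  refine D.mem_of_eq (sum_add hx hx') ?_
  have h6 : ∀ s t s' t' : ZMod 2, s ≠ t → s' ≠ t' → s + s' = t + t' := by decide
  exact h6 _ _ _ _ h4 h5

/-! ### Points of the block `X` -/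

theorem adj_pp {a b : Fin N} (hab : a ≠ b) : Adj ε (pt ε 0) (e (pr a b)) := by
  have key : ∀ {a b : Fin N}, a ≠ b → Function.Injective ![a, b] := by
    intro a b h i j hij
    fin_cases i <;> fin_cases j <;> first | rfl | (exfalso; simp_all)
  have hN := D.K.N8
  obtain ⟨σ, hs, h1⟩ := exists_even (by omega) (key D.ab1) (key hab)
  obtain ⟨k, hk, k2, -⟩ := D.exists_alt hs
  have s1 : σ (α 1) = a := h1 0
  have s2 : σ (β 1) = b := h1 1
  refine ⟨k, mem_Cn'.1 hk, ?_⟩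
  rw [D.pt_one, k2, s1, s2]

theorem blk_pp {a b : Fin N} (hab : a ≠ b) : blk ε X (pt ε 0) (e (pr a b)) = X := by
  have h1 := D.blk_eq_blk (D.adj0 D.B.one_ne_zero) (D.adj_pp hab) (by
    rw [D.blk_z]
    exact D.e_mem _ _)
  rw [h1, D.blk_z]

theorem adj_disj {a b c d : Fin N} (h1 : a ≠ b) (h2 : a ≠ c) (h3 : a ≠ d) (h4 : b ≠ c) (h5 : b ≠ d)
    (h6 : c ≠ d) : Adj ε (e (pr a b)) (e (pr c d)) := by
  have h10 := D.B.one_ne_zero
  obtain ⟨j, hj0, hj1⟩ := D.exists_letter 1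
  obtain ⟨d1, d2, d3, d4⟩ := D.disj' h10 hj0 hj1.symm
  obtain ⟨σ, hs, s1, s2, s3, s4⟩ := exists_even_four D.K.N8 D.ab1 d1 d2 d3 d4 (D.K.ab j hj0)
    h1 h2 h3 h4 h5 h6
  obtain ⟨k, hk, k2, -⟩ := D.exists_alt hs
  have e1 : k * pt ε 1 * k⁻¹ = e (pr a b) := by
    rw [D.pt_one, k2, s1, s2]
  have e2 : k * pt ε j * k⁻¹ = e (pr c d) := by
    rw [D.pt_eq hj0, D.zeta_one, mul_one, k2, s3, s4]
  have h7 := (D.B.adj_pt hj1.symm).conj k
  rwa [e1, e2] at h7

/-! ### (4) -/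

/-- `M(y, p) ≤ Q_y`, abelian (critical distance 2). -/
theorem MM_le {x x' y p : G} (hc : Crit V ε 2 x x') (h : Adj ε y p) :
    MM ε X y p ≤ Qn y ∧ MM ε X y p ≤ centralizer (MM ε X y p : Set G) := by
  have h1 : ∀ a b, Adj ε a b → U V (pt ε 0) a ≤ Qn b := fun a b hab =>
    D.B.theta hc.min 1 (by norm_num) a b hab.walk
  have h2 : ∀ a b, Adj ε a b → U V (pt ε 0) a ≤ centralizer (U V (pt ε 0) b : Set G) := fun a b hab =>
    hc.min 1 (by norm_num) a b hab.walk
  have h' := D.B.adj_symm h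
  have a1 := D.blk_le_U h
  have a2 := D.blk_le_U h'
  refine ⟨sup_le (a1.trans (D.B.U_le_Qn y)) (a2.trans (h1 _ _ h')), ?_⟩
  refine sup_le ?_ ?_
  · refine comm_symm (sup_le ?_ ?_)
    · exact comm_mono (D.B.U_comm y) a1 a1
    · exact comm_mono (h2 _ _ h') a2 a1
  · refine comm_symm (sup_le ?_ ?_)
    · exact comm_mono (h2 _ _ h) a1 a2
    · exact comm_mono (D.B.U_comm p) a2 a2

/-- `[M(y, p), Q_y] ≤ ⟨y⟩`. -/
theorem MM_comm {x x' y p g m : G} (hc : Crit V ε 2 x x') (h : Adj ε y p) (hg : g ∈ Qn y)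
    (hm : m ∈ MM ε X y p) : g * m * g⁻¹ * m⁻¹ ∈ zpowers y := by
  obtain ⟨T, hT⟩ := exists_comm (D.MM_le hc h).2 (p := y) (mem_sup_left (D.left_mem h)) g
  have h1 : MM ε X y p ≤ T := by
    refine sup_le ?_ ?_
    · intro u hu
      rw [hT]
      refine ⟨mem_sup_left hu, ?_⟩
      have h3 := mem_centralizer_iff.1 (D.B.Qn_le y hg) u (D.blk_le_U h hu)
      rw [← h3]
      simp
    · intro u hu
      rw [hT]
      exact ⟨mem_sup_right hu, D.comm_zpowers (D.B.adj_symm h) hg (D.blk_le_U (D.B.adj_symm h) hu)⟩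
  exact ((hT m).1 (h1 hm)).2

/-- The blocks of `x`, `x'` at the middle point do not commute. -/
theorem blk_not_comm {x x' y : G} (hc : Crit V ε 2 x x') (h : Adj ε x y) (h' : Adj ε x' y) :
    ¬ blk ε X x' y ≤ centralizer (blk ε X x y : Set G) := by
  intro h0
  apply hc.ne
  have h1 : U V (pt ε 0) x ≤ Qn y := D.B.theta hc.min 1 (by norm_num) _ _ h.walk
  have h1' : U V (pt ε 0) x' ≤ Qn y := D.B.theta hc.min 1 (by norm_num) _ _ h'.walk
  have h2 : U V (pt ε 0) x ≤ centralizer (blk ε X x' y : Set G) := by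
    refine D.U_le_of fun q hq => ?_
    by_cases hqy : blk ε X x q = blk ε X x y
    · rw [hqy]
      exact comm_symm h0
    · exact comm_symm (((D.blk_le_U h').trans h1').trans (D.Q1' h hq hqy))
  refine comm_symm (D.U_le_of fun q hq => ?_)
  by_cases hqy : blk ε X x' q = blk ε X x' y
  · rw [hqy]
    exact comm_symm h2
  · exact comm_symm (h1.trans (D.Q1' h' hq hqy))

/-- **THEOREM SN, parts (3), (4).** -/
theorem false [Finite G] : False := by
  obtain ⟨k, p, x', hc⟩ := D.B.exists_crit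
  obtain rfl := D.crit_two hc
  obtain ⟨y, hpy, hw⟩ := D.B.walk_cases hc.walk
  have hyx' : Adj ε y x' := by
    obtain ⟨q, h1, h2⟩ := D.B.walk_cases hw
    rw [h2.zero_eq] at h1
    exact h1
  have hx'y := D.B.adj_symm hyx'
  have hyp := D.B.adj_symm hpy
  have htheta : ∀ a b, Adj ε a b → U V (pt ε 0) a ≤ Qn b := fun a b hab =>
    D.B.theta hc.min 1 (by norm_num) a b hab.walk
  have hnc := D.blk_not_comm hc hpy hx'y
  -- two blocks at `y`
  have hne : blk ε X y x' ≠ blk ε X y p := by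
    intro h0
    have h1 := D.MM_eq hyp hyx' h0
    apply hnc
    refine comm_mono (D.MM_le hc hyp).2 ?_ le_sup_right
    rw [← h1]
    exact le_sup_right
  -- the element `g`
  obtain ⟨g, hg, hgn⟩ : ∃ g ∈ blk ε X x' y, g ∉ centralizer (blk ε X p y : Set G) := by
    by_contra hcon
    push Not at hcon
    exact hnc hcon
  have hgQ : g ∈ Qn y := htheta _ _ hx'y (D.blk_le_U hx'y hg)
  obtain ⟨h, h0, h1⟩ := hpy
  have hpy : Adj ε p y := ⟨h, h0, h1⟩
  have hbpy : blk ε X p y = MulAut.conj h • X := D.blk_eq' h0 h1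
  have hgact : ∀ v : Fin N → ZMod 2, ∑ i, v i = 0 →
      g * (h * e v * h⁻¹) * g⁻¹ = h * e (v ∘ Equiv.swap (α 1) (β 1)) * h⁻¹ := by
    refine (D.Q2' h1 hgQ).resolve_left fun h2 => hgn ?_
    rw [hbpy]
    exact h2
  -- the points `q`, `q'`
  obtain ⟨c, hcc⟩ := exists_out D.K.N8 ({α 1, β 1} : Finset (Fin N))
    (Finset.card_le_two.trans (by norm_num))
  simp only [Finset.mem_insert, Finset.mem_singleton, not_or] at hcc
  obtain ⟨hc1, hc2⟩ := hcc
  set q := h * e (pr (α 1) c) * h⁻¹ with hq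
  set q' := h * e (pr (β 1) c) * h⁻¹ with hq'
  have hpq : Adj ε p q := by
    have h2 := (D.adj_pp (Ne.symm hc1)).conj h
    rwa [h0] at h2
  have hpq' : Adj ε p q' := by
    have h2 := (D.adj_pp (Ne.symm hc2)).conj h
    rwa [h0] at h2
  have hbq : blk ε X p q = MulAut.conj h • X := by
    rw [← h0, hq, ← conj_blk, D.blk_pp (Ne.symm hc1)]
  have hbq' : blk ε X p q' = MulAut.conj h • X := by
    rw [← h0, hq', ← conj_blk, D.blk_pp (Ne.symm hc2)]
  have hgq : g * q * g⁻¹ = q' := by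
    have h2 : pr (α 1) c ∘ Equiv.swap (α 1) (β 1) = pr (β 1) c := by
      have h3 := pr_comp (Equiv.swap (α 1) (β 1)) (α 1) c
      rw [Equiv.swap_apply_left, Equiv.swap_apply_of_ne_of_ne hc1 hc2, Equiv.symm_swap] at h3
      exact h3
    rw [hq, hgact _ (sum_pr _ _), h2]
  -- (a) `[U_q, U_y] = 1`
  have hqy : U V (pt ε 0) q ≤ centralizer (U V (pt ε 0) y : Set G) := by
    by_contra hcon
    have hcr : Crit V ε 2 q y := ⟨(D.B.adj_symm hpq).walk.step hpy, hcon, hc.min⟩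
    obtain ⟨a, ha⟩ := exists_out D.K.N8 ({α 1, β 1, c} : Finset (Fin N))
      (Finset.card_le_three.trans (by norm_num))
    obtain ⟨b, hb⟩ := exists_out D.K.N8 ({α 1, β 1, c, a} : Finset (Fin N))
      (Finset.card_le_four.trans (by norm_num))
    simp only [Finset.mem_insert, Finset.mem_singleton, not_or] at ha hb
    have h2 : Adj ε q (h * e (pr a b) * h⁻¹) :=
      (D.adj_disj (Ne.symm hc1) (Ne.symm ha.1) (Ne.symm hb.1) (Ne.symm ha.2.2) (Ne.symm hb.2.2.1)
        (Ne.symm hb.2.2.2)).conj h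
    have h3 : Adj ε y (h * e (pr a b) * h⁻¹) := by
      rw [← h1, D.pt_one]
      exact (D.adj_disj D.ab1 (Ne.symm ha.1) (Ne.symm hb.1) (Ne.symm ha.2.1) (Ne.symm hb.2.1)
        (Ne.symm hb.2.2.2)).conj h
    have h4 := D.crit_unique hcr (D.B.adj_symm hpq) hpy h2 (D.B.adj_symm h3)
    have h5 : Adj ε p (h * e (pr a b) * h⁻¹) := by
      have h6 := (D.adj_pp (Ne.symm hb.2.2.2)).conj h
      rwa [h0] at h6
    exact D.B.adj_ne h5 h4
  -- (b) `U_q ≤ Q_y`
  have hUq : U V (pt ε 0) q ≤ Qn y := fun u hu =>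
    D.B.inf_le hyp ⟨htheta _ _ (D.B.adj_symm hpq) hu, hqy hu⟩
  -- (c) `[U_q, g] ≤ ⟨y⟩`
  have hcom : ∀ u ∈ U V (pt ε 0) q, u * g * u⁻¹ * g⁻¹ = 1 ∨ u * g * u⁻¹ * g⁻¹ = y := by
    intro u hu
    have h2 := D.MM_comm hc hyx' (hUq hu) (m := g) (mem_sup_right hg)
    exact (mem_zpowers_iff_of_sq (D.B.sq_of hyp.left)).1 h2
  -- (d) index 2
  have hUg : MulAut.conj g • U V (pt ε 0) q = U V (pt ε 0) q' := by
    rw [conj_U, hgq]
  have hW : ∀ u ∈ U V (pt ε 0) q, u * g * u⁻¹ * g⁻¹ = 1 → u ∈ U V (pt ε 0) q' := by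
    intro u hu h2
    have h3 := mem_conj_of hu g
    rw [hUg] at h3
    have h4 : g * u * g⁻¹ = u := by
      have h5 : g * u * g⁻¹ = (u * g * u⁻¹ * g⁻¹)⁻¹ * u := by group
      rw [h5, h2, inv_one, one_mul]
    rwa [h4] at h3
  have hW2 : ∀ u ∈ U V (pt ε 0) q, ∀ v ∈ U V (pt ε 0) q, u ∉ U V (pt ε 0) q' → v ∉ U V (pt ε 0) q' →
      u * v⁻¹ ∈ U V (pt ε 0) q' := by
    intro u hu v hv hu' hv'
    have e1 := (hcom u hu).resolve_left fun h2 => hu' (hW u hu h2)
    have e2 := (hcom v hv).resolve_left fun h2 => hv' (hW v hv h2)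
    have h4 : v⁻¹ * u ∈ U V (pt ε 0) q' := by
      refine hW _ (mul_mem (inv_mem hv) hu) ?_
      have h2 : (v⁻¹ * u) * g * (v⁻¹ * u)⁻¹ * g⁻¹ =
          v⁻¹ * ((u * g * u⁻¹ * g⁻¹) * (v * g * v⁻¹ * g⁻¹)⁻¹) * v * (g * (g⁻¹ * g)* g⁻¹) := by
        group
      rw [h2, e1, e2]
      group
    have h5 : u * v⁻¹ = v⁻¹ * u :=
      ((mem_centralizer_iff.1 (D.B.U_comm q (inv_mem hv))) u hu)
    rw [h5]
    exact h4
  -- (e) `K_q` centralises `M`
  set Y := blk ε X q p with hY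
  have hqp := D.B.adj_symm hpq
  have hM : MM ε X q p = MM ε X p y := by
    rw [MM_symm, D.MM_eq hpy hpq (by rw [hbq, hbpy])]
  have hK : oddGen (centralizer (Y : Set G)) ≤ centralizer (MM ε X p y : Set G) := by
    rw [← hM, oddGen_def, closure_le]
    rintro k ⟨hk, ho⟩
    have hkp : k * p * k⁻¹ = p :=
      mem_Cn'.1 (mem_Cn.2 (mem_centralizer_iff.1 hk p (D.right_mem hqp)).symm)
    have hkq : k * q * k⁻¹ = q :=
      mem_Cn'.1 (mem_Cn.2 (mem_centralizer_iff.1 hk q (D.left_mem hqp)).symm)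
    have hkb : MulAut.conj k • blk ε X p q = blk ε X p q := by
      rw [conj_blk, hkp, hkq]
    have hkY : MulAut.conj k • Y = Y := by
      rw [hY, conj_blk, hkp, hkq]
    change k ∈ centralizer (MM ε X q p : Set G)
    refine comm_symm (A := MM ε X q p) (B := zpowers k) ?_ (mem_zpowers k)
    have hz : ∀ A : Subgroup G, (∀ a ∈ A, k * a = a * k) → A ≤ centralizer (zpowers k : Set G) := by
      intro A hA
      refine comm_symm ?_
      rw [zpowers_le, mem_centralizer_iff]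
      exact fun a ha => (hA a ha).symm
    refine sup_le (hz _ fun a ha => (mem_centralizer_iff.1 hk a ha).symm) (hz _ fun b hb => ?_)
    -- `b ∈ blk p q`
    by_cases hbY : b ∈ Y
    · exact (mem_centralizer_iff.1 hk b hbY).symm
    · have hb2 : k * b * k⁻¹ ∈ blk ε X p q := by
        rw [← hkb]
        exact mem_conj_of hb k
      have hb3 : k * b * k⁻¹ ∉ Y := by
        rw [← hkY, mem_conj]
        have : k⁻¹ * (k * b * k⁻¹) * k = b := by group
        rwa [this]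
      have hd := D.index_two hpq hb2 hb hb3 hbY
      set d := k * b * k⁻¹ * b⁻¹ with hdd
      have hkd : k * d * k⁻¹ = d := mem_Cn'.1 (mem_Cn.2 (mem_centralizer_iff.1 hk d hd).symm)
      have hd2 : d ^ 2 = 1 := D.B.U_sq q d (D.blk_le_U hqp hd)
      have key : ∀ i : ℕ, k ^ i * b * (k ^ i)⁻¹ = d ^ i * b := by
        intro i
        induction i with
        | zero => simp
        | succ i ih =>
          have h2 : k ^ (i + 1) * b * (k ^ (i + 1))⁻¹ = k * (k ^ i * b * (k ^ i)⁻¹) * k⁻¹ := by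
            rw [pow_succ' k i]
            group
          have h3 : k * (d ^ i * b) * k⁻¹ = (k * d * k⁻¹) ^ i * (k * b * k⁻¹) := by
            rw [conj_pow]
            group
          have h4 : k * b * k⁻¹ = d * b := by
            rw [hdd]
            group
          rw [h2, ih, h3, hkd, h4, ← mul_assoc, ← pow_succ]
      have h2 := key (orderOf k)
      rw [pow_orderOf_eq_one, one_mul, inv_one, mul_one] at h2
      have h3 : d ^ orderOf k = 1 := by
        have h4 := h2.symm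
        rwa [mul_eq_right] at h4
      obtain ⟨i, hi⟩ := ho
      rw [hi, pow_add, pow_mul, hd2, one_pow, one_mul, pow_one] at h3
      have h4 : k * b * k⁻¹ = b := by
        have h5 : k * b * k⁻¹ = d * b := by
          rw [hdd]
          group
        rw [h5, h3, one_mul]
      exact mem_Cn.1 (mem_Cn'.2 h4)
  -- (f) `q`, `q'` are in `M`
  have hqM : q ∈ MM ε X p y := by
    refine mem_sup_left ?_
    rw [hbpy, ← hbq]
    exact D.right_mem hpq
  have hq'M : q' ∈ MM ε X p y := by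
    refine mem_sup_left ?_
    rw [hbpy, ← hbq']
    exact D.right_mem hpq'
  -- (h), (i)
  have hqU : q ∈ U V (pt ε 0) q' := by
    have h2 : ⁅U V (pt ε 0) q, oddGen (centralizer (Y : Set G))⁆ ≤ U V (pt ε 0) q' := by
      rw [Subgroup.commutator_le]
      intro u hu k hk
      have hkq : k ∈ Cn q := mem_Cn.2 (mem_centralizer_iff.1 (hK hk) q hqM).symm
      have hkq' : k ∈ Cn q' := mem_Cn.2 (mem_centralizer_iff.1 (hK hk) q' hq'M).symm
      have n1 := Base.Cn_le_normalizer (V := V) (pt ε 0) q hkq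
      have n2 := Base.Cn_le_normalizer (V := V) (pt ε 0) q' hkq'
      rw [commutatorElement_def]
      have h3 : u * k * u⁻¹ * k⁻¹ = u * (k * u * k⁻¹)⁻¹ := by group
      rw [h3]
      by_cases hu' : u ∈ U V (pt ε 0) q'
      · exact mul_mem hu' (inv_mem ((mem_normalizer_iff.1 n2 u).1 hu'))
      · exact hW2 u hu _ ((mem_normalizer_iff.1 n1 u).1 hu) hu' fun h4 =>
          hu' ((mem_normalizer_iff.1 n2 u).2 h4)
    refine h2 ?_
    -- `q` has two blocks
    have h3 : ∃ r, Adj ε q r ∧ blk ε X q r ≠ blk ε X q p := by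
      obtain ⟨a, a0, a1⟩ := hyp
      obtain ⟨b, b0, b1⟩ := hqp
      refine ⟨(b * a⁻¹) * x' * (b * a⁻¹)⁻¹, ?_, ?_⟩
      · have h4 := hyx'.conj (b * a⁻¹)
        have h5 : b * a⁻¹ * y * (b * a⁻¹)⁻¹ = q := by
          rw [← a0, ← b0]
          group
        rwa [h5] at h4
      · intro h4
        apply hne
        have h5 := congrArg (fun A => MulAut.conj (a * b⁻¹) • A) h4
        simp only [conj_blk] at h5
        have h6 : a * b⁻¹ * q * (a * b⁻¹)⁻¹ = y := by
          rw [← a0, ← b0]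
          group
        have h7 : a * b⁻¹ * (b * a⁻¹ * x' * (b * a⁻¹)⁻¹) * (a * b⁻¹)⁻¹ = x' := by group
        have h8 : a * b⁻¹ * p * (a * b⁻¹)⁻¹ = p := by
          have h9 : a * b⁻¹ * (b * pt ε 1 * b⁻¹) * (a * b⁻¹)⁻¹ = a * pt ε 1 * a⁻¹ := by group
          rwa [b1, a1] at h9
        rwa [h6, h7, h8] at h5
    obtain ⟨r, hr, hrne⟩ := h3
    exact D.K2' hqp hr hrne
  -- (j)
  have hgp : g * p * g⁻¹ = p :=
    mem_Cn'.1 (mem_Cn.2 (mem_centralizer_iff.1 (D.B.Qn_le y hgQ) p (D.B.mem_U hyp)).symm)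
  have hgy : g * y * g⁻¹ = y :=
    mem_Cn'.1 (mem_Cn.2 (mem_centralizer_iff.1 (D.B.Qn_le y hgQ) y (D.B.mem_U_self hyp.left)).symm)
  have hK' : oddGen (centralizer (blk ε X q' p : Set G)) ≤ centralizer (MM ε X p y : Set G) := by
    have h2 := conj_le_iff (g := g) |>.2 hK
    rw [conj_oddGen, ← centralizer_conj, ← centralizer_conj, hY, conj_blk, conj_MM, hgq, hgp, hgy] at h2
    exact h2
  have hqb : q ∈ blk ε X q' p := by
    refine D.K1' (D.B.adj_symm hpq') ⟨hqU, ?_⟩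
    exact comm_symm hK' hqM
  -- (k)
  obtain ⟨f, hf⟩ := exists_out D.K.N8 ({α 1, β 1, c} : Finset (Fin N))
    (Finset.card_le_three.trans (by norm_num))
  simp only [Finset.mem_insert, Finset.mem_singleton, not_or] at hf
  obtain ⟨σ, hs, s1, s2, s3, -⟩ := exists_even_four D.K.N8 D.ab1 (Ne.symm hc1) (Ne.symm hf.1)
    (Ne.symm hc2) (Ne.symm hf.2.1) (Ne.symm hf.2.2) hc2 hc1 (Ne.symm hf.2.2) D.ab1.symm
    (Ne.symm hf.2.1) (Ne.symm hf.1)
  obtain ⟨k, hk, k2, -⟩ := D.exists_alt hs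
  apply D.not_mem hc1 hc2
  have h2 : MulAut.conj (h * k) • blk ε X (pt ε 1) (pt ε 0) = blk ε X q' p := by
    rw [← conj_conj, conj_blk _ _ k, mem_Cn'.1 hk, D.pt_one, k2, s1, s2, conj_blk, h0, hq', pr_comm c]
  have h3 : (h * k) * e (pr (α 1) c) * (h * k)⁻¹ = q := by
    have h4 : (h * k) * e (pr (α 1) c) * (h * k)⁻¹ = h * (k * e (pr (α 1) c) * k⁻¹) * h⁻¹ := by group
    rw [h4, k2, s1, s3, pr_comm c]
  rw [← h2, ← h3, mem_conj] at hqb
  have h4 : (h * k)⁻¹ * ((h * k) * e (pr (α 1) c) * (h * k)⁻¹) * (h * k) = e (pr (α 1) c) := by group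
  rwa [h4] at hqb

end Sit

/-- **Parts (3), (4) for every `Base`** (`n ≥ 5` letters, `N ≥ 8`). -/
theorem Base.false_of_blk {G : Type u} [Group G] [Finite G] {n : ℕ} [NeZero n] {V P : Subgroup G}
    {ε : (Fin n → ZMod 2) → G} (B : Base V P ε) {N : ℕ} {X : Subgroup G} {e : (Fin N → ZMod 2) → G}
    {α β : Fin n → Fin N} {ζ : G} (hK : Blk V ε N X e α β ζ) : False := Sit.false ⟨B, hK⟩

/-- **THEOREM SN, parts (1), (3), (4)**: `Hyp` and the structure `Str` of part (2) contradict each other. -/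
theorem false_of_str {G : Type u} [Group G] [Finite G] {S : Sylow 2 G} {P : Subgroup G} {m : ℕ}
    {ε : (Fin (2 ^ m + 1) → ZMod 2) → G} (h : Hyp S P m ε) (hs : Str S P m ε) : False := by
  obtain ⟨N, X, e, α, β, ζ, hK⟩ := hs
  exact Sit.false ⟨h.base, hK⟩

end Cfsg.Agent.Omega.NO3S.SN
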