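import Cfsg.Agent.Omega.NO3S.SN.Def

/-!
# THEOREM SN, part (1): the facts which use the Sylow subgroup

* `Hyp.zc_eq` : `Ω₁(Z(S)) = ⟨z⟩`; `Hyp.CZ_eq` : `C_G(Ω₁Z(S)) = C_G(z)`;
* `Hyp.o2_le_centralizer_V`, `Hyp.V_le` : `V ≤ Ω₁(Z(O₂(C_G(z))))`.
-/

set_option autoImplicit false
set_option linter.unusedSectionVars false

namespace Cfsg.Agent.Omega.NO3S.SN

open Subgroup Cfsg Cfsg.Agent.ZN Cfsg.Agent.Omega.MinPar Cfsg.Agent.Omega.Frame Cfsg.Agent.Omega.FrameNOFF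
open Cfsg.Agent.Omega.S5.Def Cfsg.Agent.Omega.S5.Syl
open Cfsg.Agent.MinSimple.VModule
open scoped Pointwise

universe u

/-! ### `O₂(Sym(k)) = 1` for `k ≥ 5` -/

section sym

variable {n : ℕ} [NeZero n] {T : Subgroup (Equiv.Perm (Fin n))}

theorem not_threeCycle (hT : IsPGroup 2 T) {w : Equiv.Perm (Fin n)} (hw : w ∈ T) : ¬ w.IsThreeCycle := by
  intro h3
  have h1 := h3.orderOf
  obtain ⟨k, hk⟩ := hT ⟨w, hw⟩
  have h2 : w ^ 2 ^ k = 1 := congrArg Subtype.val hk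
  have h4 : 3 ∣ 2 ^ k := by
    rw [← h1]
    exact orderOf_dvd_of_pow_eq_one h2
  have h5 := Nat.Prime.dvd_of_dvd_pow Nat.prime_three h4
  omega

theorem exists_not_mem (s : Finset (Fin n)) (h : s.card < n) : ∃ i, i ∉ s := by
  by_contra hcon
  push Not at hcon
  have h1 : s = Finset.univ := Finset.eq_univ_of_forall hcon
  rw [h1, Finset.card_univ, Fintype.card_fin] at h
  exact lt_irrefl _ h

/-- A 2-group of permutations fixing `0`, normalised by all permutations fixing `0`, is trivial. -/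
theorem sym_trivial (hn : 6 ≤ n) (hT : IsPGroup 2 T) (h0 : ∀ t ∈ T, t 0 = 0)
    (hN : ∀ t ∈ T, ∀ s : Equiv.Perm (Fin n), s 0 = 0 → s * t * s⁻¹ ∈ T) : T = ⊥ := by
  have key : ∀ t ∈ T, ∀ a b, a ≠ 0 → b ≠ 0 → Equiv.swap a b * Equiv.swap (t a) (t b) ∈ T := by
    intro t ht a b ha hb
    have hs : Equiv.swap a b 0 = 0 := Equiv.swap_apply_of_ne_of_ne ha.symm hb.symm
    have h1 := T.mul_mem (hN t ht _ hs) (T.inv_mem ht)
    have h2 : Equiv.swap (t a) (t b) = t * Equiv.swap a b * t⁻¹ := Equiv.swap_apply_apply t a b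
    rw [h2]
    have h3 : (Equiv.swap a b)⁻¹ = Equiv.swap a b := Equiv.swap_inv a b
    rw [h3] at h1
    convert h1 using 1
    group
  have claim1 : ∀ u ∈ T, ∀ a f, a ≠ 0 → f ≠ 0 → u f = f → u a = a := by
    intro u hu a f ha hf huf
    by_contra hne
    have haf : a ≠ f := fun h => hne (by rw [h]; exact huf)
    have hcf : u a ≠ f := fun h => haf (u.injective (h.trans huf.symm))
    have h1 := key u hu a f ha hf
    rw [huf, Equiv.swap_comm a f, Equiv.swap_comm (u a) f] at h1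
    exact not_threeCycle hT h1
      (Equiv.Perm.isThreeCycle_swap_mul_swap_same (Ne.symm haf) (Ne.symm hcf) (Ne.symm hne))
  have claim2 : ∀ t ∈ T, ∀ a, a ≠ 0 → t a ≠ a → t (t a) = a := by
    intro t ht a ha hta
    by_contra hne
    have hb : t a ≠ 0 := fun h => ha (t.injective (h.trans (h0 t ht).symm))
    have h1 := key t ht a (t a) ha hb
    rw [Equiv.swap_comm a (t a)] at h1
    exact not_threeCycle hT h1
      (Equiv.Perm.isThreeCycle_swap_mul_swap_same hta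
        (fun h => hta (t.injective h.symm)) (Ne.symm hne))
  rw [eq_bot_iff]
  intro t ht
  rw [mem_bot]
  by_contra hne
  obtain ⟨a, hta⟩ : ∃ a, t a ≠ a := by
    by_contra hcon
    push Not at hcon
    exact hne (Equiv.ext hcon)
  have ha : a ≠ 0 := fun h => hta (by rw [h]; exact h0 t ht)
  have htb := claim2 t ht a ha hta
  obtain ⟨c, hc⟩ := exists_not_mem ({0, a, t a} : Finset (Fin n)) (lt_of_le_of_lt Finset.card_le_three (by omega))
  simp only [Finset.mem_insert, Finset.mem_singleton, not_or] at hc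
  obtain ⟨hc0, hca, hcb⟩ := hc
  have htc : t c ≠ c := fun h => hta (claim1 t ht a c ha hc0 h)
  obtain ⟨f, hf⟩ := exists_not_mem ({0, a, t a, c, t c} : Finset (Fin n))
    (lt_of_le_of_lt Finset.card_le_five (by omega))
  simp only [Finset.mem_insert, Finset.mem_singleton, not_or] at hf
  obtain ⟨hf0, hfa, hfb, hfc, hfd⟩ := hf
  have h1 := key t ht a c ha hc0
  have h2 := claim1 _ h1 a f ha hf0 (by
    rw [Equiv.Perm.mul_apply, Equiv.swap_apply_of_ne_of_ne hfb hfd, Equiv.swap_apply_of_ne_of_ne hfa hfc])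
  rw [Equiv.Perm.mul_apply, Equiv.swap_apply_of_ne_of_ne (Ne.symm hta)
    (fun h => hcb (t.injective (by rw [htb]; exact h.symm))), Equiv.swap_apply_left] at h2
  exact hca h2

end sym

/-! ### `Hyp` -/

section hyp

variable {G : Type u} [Group G] [Finite G] {S : Sylow 2 G} {P : Subgroup G} {m : ℕ}
  {ε : (Fin (2 ^ m + 1) → ZMod 2) → G} (h : Hyp S P m ε)
include h

theorem Hyp.nine_le : 9 ≤ 2 ^ m + 1 := by
  have h1 : 2 ^ 3 ≤ 2 ^ m := Nat.pow_le_pow_right (by norm_num) h.m3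
  omega

theorem Hyp.S_ne : (S : Subgroup G) ≠ ⊥ := h.ctx.sylow_ne_bot S

/-- `Ω₁(Z(S)) = ⟨z⟩`. -/
theorem Hyp.zc_eq : zc (S : Subgroup G) = zpowers (ε (Pi.single 0 1)) := by
  have hm : 1 ≤ m := le_trans (by norm_num) h.m3
  have h1 : ∀ x ∈ zc (S : Subgroup G), x = 1 ∨ x = ε (Pi.single 0 1) := by
    intro x hx
    exact fixed hm h.ev h.star.isLoc.le (MinSimple.Basic.not_dvd_relIndex S h.star.isLoc.le) h.fix0
      (zc_le_zl _ _ hx) fun s hs => (mem_zc.1 hx).2.1 s hs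
  have h2 := MinSimple.Basic.zc_ne_bot S.isPGroup' h.S_ne
  apply le_antisymm
  · intro x hx
    rcases h1 x hx with h3 | h3
    · rw [h3]
      exact one_mem _
    · rw [h3]
      exact mem_zpowers _
  · rw [zpowers_le]
    rw [Ne, Subgroup.eq_bot_iff_forall] at h2
    push Not at h2
    obtain ⟨x, hx, hx1⟩ := h2
    rcases h1 x hx with h3 | h3
    · exact absurd h3 hx1
    · rwa [h3] at hx

theorem Hyp.CZ_eq : CZ (S : Subgroup G) = centralizer ({ε (Pi.single 0 1)} : Set G) := by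
  rw [CZ, h.zc_eq]
  ext g
  rw [mem_centralizer_iff, mem_centralizer_singleton_iff]
  constructor
  · intro h1
    exact (h1 _ (mem_zpowers _)).symm
  · rintro h1 _ ⟨k, rfl⟩
    have h2 : Commute g (ε (Pi.single 0 1)) := h1
    exact (h2.zpow_right k).eq.symm

theorem Hyp.z_sq : ε (Pi.single 0 1) ^ 2 = 1 := by
  rw [pow_two]
  exact h.ev.sq _

theorem Hyp.z_ne_one : ε (Pi.single 0 1) ≠ 1 :=
  h.ev.single_ne_one (le_trans (by norm_num) h.nine_le) 0

theorem Hyp.S_le : (S : Subgroup G) ≤ centralizer ({ε (Pi.single 0 1)} : Set G) := by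
  rw [← h.CZ_eq]
  exact le_centralizer_zc _

theorem Hyp.isLoc_Cz : IsLoc (S : Subgroup G) (centralizer ({ε (Pi.single 0 1)} : Set G)) :=
  isLoc_centralizer S h.z_sq h.z_ne_one h.S_le

theorem Hyp.o2_le_S : o2 (centralizer ({ε (Pi.single 0 1)} : Set G)) ≤ (S : Subgroup G) :=
  h.isLoc_Cz.o2_le S

/-- (1a) `O₂(C_G(z))` centralises `V`. -/
theorem Hyp.o2_le_centralizer_V :
    o2 (centralizer ({ε (Pi.single 0 1)} : Set G)) ≤ centralizer (zl (S : Subgroup G) P : Set G) := by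
  have hn3 : 3 ≤ 2 ^ m + 1 := le_trans (by norm_num) h.nine_le
  set Q := o2 (centralizer ({ε (Pi.single 0 1)} : Set G)) with hQ
  have hQP : Q ≤ P := h.o2_le_S.trans h.star.isLoc.le
  let T : Subgroup (Equiv.Perm (Fin (2 ^ m + 1))) := (Q.subgroupOf P).map (h.ev.hom hn3)
  have hT : IsPGroup 2 T := ((o2_isPGroup _).comap_of_injective _ P.subtype_injective).map _
  have hT0 : T = ⊥ := by
    refine sym_trivial (le_trans (by norm_num) h.nine_le) hT ?_ ?_
    · rintro _ ⟨⟨q, hqP⟩, hq, rfl⟩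
      exact h.fix0 q (h.o2_le_S hq) _ (h.ev.acts_hom hn3 ⟨q, hqP⟩)
    · rintro _ ⟨⟨q, hqP⟩, hq, rfl⟩ s hs
      obtain ⟨⟨g, hgP⟩, hg⟩ := h.ev.hom_surjective hn3 s
      refine ⟨⟨g, hgP⟩ * ⟨q, hqP⟩ * ⟨g, hgP⟩⁻¹, ?_, by rw [map_mul, map_mul, map_inv, hg]⟩
      have h1 : Acts ε g s := by
        rw [← hg]
        exact h.ev.acts_hom hn3 ⟨g, hgP⟩
      have h2 : g ∈ centralizer ({ε (Pi.single 0 1)} : Set G) := by
        rw [mem_centralizer_singleton_iff]
        exact (h.ev.fixes_iff hn3 h1 0).2 hs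
      exact (mem_normalizer_iff.1 (le_normalizer_o2 _ h2) q).1 hq
  intro q hq
  rw [← h.ev.acts_one_iff]
  have h1 := h.ev.acts_hom hn3 ⟨q, hQP hq⟩
  have h2 : h.ev.hom hn3 ⟨q, hQP hq⟩ ∈ T := ⟨_, hq, rfl⟩
  rw [hT0, mem_bot] at h2
  rwa [h2] at h1

/-- (1a) `V ≤ Ω₁(Z(O₂(C_G(z))))`. -/
theorem Hyp.V_le : zl (S : Subgroup G) P ≤ zc (o2 (centralizer ({ε (Pi.single 0 1)} : Set G))) := by
  intro v hv
  have h1 := mem_centralizer_iff.1 (Subgroup.le_centralizer_iff.1 h.o2_le_centralizer_V hv)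
  rw [mem_zc]
  refine ⟨h.isLoc_Cz.char2 S h.ctx.char2
    ⟨mem_centralizer_singleton_iff.2 (h.ev.comm_mem hv (h.ev.mem _)), mem_centralizer_iff.2 h1⟩, h1, ?_⟩
  · rw [pow_two]
    exact h.ev.sq_mem hv

end hyp

end Cfsg.Agent.Omega.NO3S.SN
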